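import Groth.Agent.SerreDual.ExtShExists
import Groth.Agent.SerreDual.ExtShDivisor
import Groth.Agent.Coherent.ModExt
import Groth.Agent.Coherent.Existence.HomAffine
import Groth.Agent.Coherent.InjRestrict
import Groth.Agent.AffSchLib.TildeExact
import Groth.Agent.Flatn12.PullbackSections
import Mathlib.Algebra.Category.ModuleCat.Injective

/-!
# Sections over affine opens of injective resolutions and of `Hom(ι_* O, I^•)`
-/

set_option autoImplicit false
set_option linter.style.haveILetI false
set_option linter.unusedSectionVars false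
set_option backward.isDefEq.respectTransparency.types false

universe u

open CategoryTheory CategoryTheory.Limits AlgebraicGeometry Opposite TopologicalSpace
open Groth.Agent.Coherent Groth.Agent.PicLib Groth.Agent.AmpleLib Groth.Agent.SerreDual

namespace Groth.Agent.FundLocal

section Resolution

variable {P : Scheme.{u}} {F : P.Modules} (I : InjectiveResolution F)

/-- The differential on sections. -/
noncomputable def dI (U : P.Opens) (i : ℕ) :
    Γ(I.cocomplex.X i, U) →ₗ[Γ(P, U)] Γ(I.cocomplex.X (i + 1), U) :=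
  Coherent.appLin (I.cocomplex.d i (i + 1)) U

/-- The augmentation on sections. -/
noncomputable def εI (U : P.Opens) : Γ(F, U) →ₗ[Γ(P, U)] Γ(I.cocomplex.X 0, U) :=
  Coherent.appLin (N := I.cocomplex.X 0) (I.ι.f 0) U

theorem dI_apply (U : P.Opens) (i : ℕ) (t : Γ(I.cocomplex.X i, U)) :
    dI I U i t = (I.cocomplex.d i (i + 1)).app U t := rfl

theorem εI_injective (U : P.Opens) : Function.Injective (εI I U) :=
  app_injective_of_mono (I.ι.f 0) U

theorem dI_res {U V : P.Opens} (h : V ≤ U) (i : ℕ) (t : Γ(I.cocomplex.X i, U)) :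
    resM (I.cocomplex.X (i + 1)) h (dI I U i t) = dI I V i (resM (I.cocomplex.X i) h t) :=
  (app_resM (I.cocomplex.d i (i + 1)) h t).symm

theorem εI_res {U V : P.Opens} (h : V ≤ U) (x : Γ(F, U)) :
    resM (I.cocomplex.X 0) h (εI I U x) = εI I V (resM F h x) :=
  (app_resM (N := I.cocomplex.X 0) (I.ι.f 0) h x).symm

/-- The resolution, augmented, is exact on sections at the start. -/
theorem exact_εI (U : P.Opens) : Function.Exact (εI I U) (dI I U 0) := fun t => by
  refine ⟨fun ht => ?_, ?_⟩
  · obtain ⟨k, hk⟩ := kernel_sections_exact (I.cocomplex.d 0 1) t ht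
    let e := I.isLimitKernelFork.conePointUniqueUpToIso (kernelIsKernel (I.cocomplex.d 0 1))
    refine ⟨e.inv.app U k, ?_⟩
    have h : e.inv ≫ I.kernelFork.ι = kernel.ι (I.cocomplex.d 0 1) :=
      IsLimit.conePointUniqueUpToIso_inv_comp I.isLimitKernelFork (kernelIsKernel (I.cocomplex.d 0 1))
        WalkingParallelPair.zero
    exact (congrArg (fun φ : kernel (I.cocomplex.d 0 1) ⟶ I.cocomplex.X 0 => φ.app U k) h).trans hk
  · rintro ⟨x, rfl⟩
    exact congrArg (fun φ : F ⟶ I.cocomplex.X 1 => φ.app U x) I.ι_f_zero_comp_complex_d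

/-- The resolution, cut into short exact sequences. -/
theorem shortExact_kernel (q : ℕ) :
    (ShortComplex.mk (kernel.ι (I.cocomplex.d q (q + 1)))
      (kernel.lift (I.cocomplex.d (q + 1) (q + 1 + 1)) (I.cocomplex.d q (q + 1))
        (I.cocomplex.d_comp_d q (q + 1) (q + 1 + 1))) (by
          rw [← cancel_mono (kernel.ι (I.cocomplex.d (q + 1) (q + 1 + 1))), Category.assoc, kernel.lift_ι,
            kernel.condition, zero_comp])).ShortExact := by
  refine { exact := ShortComplex.exact_of_f_is_kernel _ ?_, epi_g := (I.exact_succ q).epi_kernelLift }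
  exact KernelFork.IsLimit.ofι _ _ (fun h w => kernel.lift _ h (by
      rw [← kernel.lift_ι (I.cocomplex.d (q + 1) (q + 1 + 1)) (I.cocomplex.d q (q + 1))
        (I.cocomplex.d_comp_d q (q + 1) (q + 1 + 1)), reassoc_of% w, zero_comp]))
    (fun h w => kernel.lift_ι _ _ _) (fun h w m hm => by
      rw [← cancel_mono (kernel.ι (I.cocomplex.d q (q + 1))), hm, kernel.lift_ι])

/-- The kernels of an injective resolution of a quasi-coherent module split locally. -/
theorem locallySplit_kernel [Coh.IsQCoh F] (q : ℕ) :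
    LocallySplit (Coh.toAb (kernel (I.cocomplex.d q (q + 1)))) := by
  induction q with
  | zero =>
    haveI : Coh.IsQCoh (kernel (I.cocomplex.d 0 1)) :=
      @Coherent.isQCoh_of_iso _ F _ (I.isLimitKernelFork.conePointUniqueUpToIso (limit.isLimit (parallelPair (I.cocomplex.d 0 1) 0))) ‹_›
    exact locallySplit_toAb _
  | succ q ih =>
    haveI := I.injective q
    exact @LocallySplit.quotient _ _ (toAb_shortExact (shortExact_kernel I q)) ih
      (isFlasque_toAb_of_injective (I.cocomplex.X q))

/-- The resolution of a quasi-coherent module is exact on sections over affine opens. -/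
theorem exact_dI [Coh.IsQCoh F] {U : P.Opens} (hU : IsAffineOpen U) (i : ℕ) :
    Function.Exact (dI I U i) (dI I U (i + 1)) := fun t => by
  refine ⟨fun ht => ?_, ?_⟩
  · obtain ⟨k, hk⟩ := kernel_sections_exact (I.cocomplex.d (i + 1) (i + 1 + 1)) t ht
    obtain ⟨s, hs⟩ := surjective_of_locallySplit (toAb_shortExact (shortExact_kernel I i))
      (locallySplit_kernel I i) hU k
    refine ⟨s, ?_⟩
    rw [← hk]
    exact (congrArg (fun φ : I.cocomplex.X i ⟶ I.cocomplex.X (i + 1) => φ.app U s)
      (kernel.lift_ι _ (I.cocomplex.d i (i + 1)) (I.cocomplex.d_comp_d i (i + 1) (i + 1 + 1)))).symm.trans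
        (congrArg ((kernel.ι (I.cocomplex.d (i + 1) (i + 1 + 1))).app U) hs)
  · rintro ⟨s, rfl⟩
    exact congrArg (fun φ : I.cocomplex.X i ⟶ I.cocomplex.X (i + 1 + 1) => φ.app U s)
      (I.cocomplex.d_comp_d i (i + 1) (i + 1 + 1))

/-- Sections of an injective module over an affine open form an injective module. -/
theorem injective_sections (N : P.Modules) [Injective N] {U : P.Opens} (hU : IsAffineOpen U) :
    Module.Injective Γ(P, U) Γ(N, U) := by
  haveI := injective_restrict hU.fromSpec N
  haveI := AffSchLib.preservesFiniteLimits_tilde Γ(P, U)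
  haveI : Injective (moduleSpecΓFunctor.obj (N.restrict hU.fromSpec)) :=
    Injective.injective_of_adjoint (tilde.adjunction (R := Γ(P, U))) _
  have h := Module.injective_module_of_injective_object Γ(P, U) ↑(moduleSpecΓFunctor.obj (N.restrict hU.fromSpec))
  let e := Flatn12.secEquiv hU N
  refine ⟨fun {A B} _ _ _ _ f hf g => ?_⟩
  obtain ⟨k, hk⟩ := h.out f hf (e.symm.toLinearMap ∘ₗ g)
  exact ⟨e.toLinearMap ∘ₗ k, fun a => by
    show e (k (f a)) = g a
    rw [hk]
    exact e.apply_symm_apply _⟩

end Resolution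

section Val

variable {P X : Scheme.{u}} (ι : X ⟶ P) [IsClosedImmersion ι]

/-- The structure sheaf of the closed subscheme on the ambient scheme. -/
noncomputable abbrev pushO : P.Modules := (Scheme.Modules.pushforward ι).obj (Coh.structureModule X)

/-- Its unit section. -/
noncomputable def oneSec (U : P.Opens) : Γ(pushO ι, U) := (show Γ(X, ι ⁻¹ᵁ U) from 1)

theorem smul_pushO (U : P.Opens) (r : Γ(P, U)) (a : Γ(pushO ι, U)) :
    (show Γ(X, ι ⁻¹ᵁ U) from r • a) = ι.app U r * (show Γ(X, ι ⁻¹ᵁ U) from a) := rfl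

theorem resM_oneSec {U V : P.Opens} (h : V ≤ U) : resM (pushO ι) h (oneSec ι U) = oneSec ι V :=
  map_one (X.presheaf.map ((Opens.map ι.base).map (homOfLE h)).op).hom

variable {N : P.Modules}

/-- The value at the unit section. -/
noncomputable def val {U : P.Opens} (φ : Γ(internalHom (pushO ι) N, U)) : Γ(N, U) :=
  ev (secHom φ) U le_rfl (oneSec ι U)

theorem val_add {U : P.Opens} (φ ψ : Γ(internalHom (pushO ι) N, U)) :
    val ι (φ + ψ) = val ι φ + val ι ψ := rfl

theorem val_zero {U : P.Opens} : val ι (0 : Γ(internalHom (pushO ι) N, U)) = 0 := rfl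

theorem val_smul {U : P.Opens} (r : Γ(P, U)) (φ : Γ(internalHom (pushO ι) N, U)) :
    val ι (r • φ) = r • val ι φ := by
  show (P.presheaf.map (homOfLE (le_refl U)).op r : Γ(P, U)) • val ι φ = r • val ι φ
  rw [show P.presheaf.map (homOfLE (le_refl U)).op r = r from
    ConcreteCategory.congr_hom (P.presheaf.map_id (op U)) r]

theorem val_res {U V : P.Opens} (h : V ≤ U) (φ : Γ(internalHom (pushO ι) N, U)) :
    val ι (resM (internalHom (pushO ι) N) h φ) = resM N h (val ι φ) := by
  refine Eq.trans ?_ (ev_res (secHom φ) le_rfl h (oneSec ι U)).symm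
  rw [resM_oneSec]
  rfl

theorem val_map {N' : P.Modules} (g : N ⟶ N') {U : P.Opens} (φ : Γ(internalHom (pushO ι) N, U)) :
    val ι ((internalHomMap (pushO ι) g).app U φ) = g.app U (val ι φ) :=
  ev_internalHomMap (pushO ι) g φ U le_rfl (oneSec ι U)

theorem smul_val {U : P.Opens} {r : Γ(P, U)} (hr : ι.app U r = 0) (φ : Γ(internalHom (pushO ι) N, U)) :
    r • val ι φ = 0 := by
  refine (ev_smul_arg (secHom φ) U le_rfl r (oneSec ι U)).symm.trans ?_
  rw [show r • oneSec ι U = (0 : Γ(pushO ι, U)) from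
    (smul_pushO ι U r (oneSec ι U)).trans (by rw [hr, zero_mul]; rfl)]
  exact map_zero ((secHom φ).1 U le_rfl)

theorem val_injective (U : P.Opens) : Function.Injective (val ι (N := N) (U := U)) := fun φ ψ h => by
  refine locHom_ext (φ := secHom φ) (ψ := secHom ψ) fun W hW a => AmpleLib.sec_ext N _ _ fun y hy => ?_
  obtain ⟨W', hW', hyW', hle⟩ := Opens.isBasis_iff_nbhd.mp P.isBasis_affineOpens hy
  refine ⟨W', hle, hyW', ?_⟩
  obtain ⟨r, hr⟩ := ι.app_surjective W' hW' (show Γ(X, ι ⁻¹ᵁ W') from resM (pushO ι) hle a)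
  rw [ev_res, ev_res, show resM (pushO ι) hle a = r • oneSec ι W' from
    hr.symm.trans ((mul_one _).symm.trans (smul_pushO ι W' r (oneSec ι W')).symm), ev_smul_arg, ev_smul_arg]
  refine congrArg (r • ·) ?_
  rw [← resM_oneSec ι (hle.trans hW), ← ev_res (secHom φ) le_rfl, ← ev_res (secHom ψ) le_rfl]
  exact congrArg (resM N (hle.trans hW)) h

/-- A section killed by the ideal is a value, on an affine open. -/
theorem exists_val {U : P.Opens} (hU : IsAffineOpen U) (s : Γ(N, U))
    (hs : ∀ r : Γ(P, U), ι.app U r = 0 → r • s = 0) :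
    ∃ φ : Γ(internalHom (pushO ι) N, U), val ι φ = s := by
  haveI : Coh.IsQCoh (Coh.structureModule X) := Coherent.isQCoh_structureModule
  haveI : Coh.IsQCoh (pushO ι) := Coherent.isQCoh_push ι _
  let q : Γ(P, U) →ₗ[Γ(P, U)] Γ(pushO ι, U) := LinearMap.toSpanSingleton _ _ (oneSec ι U)
  have hq : ∀ r, (show Γ(X, ι ⁻¹ᵁ U) from q r) = ι.app U r := fun r => mul_one _
  have hsurj : Function.Surjective q := fun a => by
    obtain ⟨r, hr⟩ := ι.app_surjective U hU (show Γ(X, ι ⁻¹ᵁ U) from a)
    exact ⟨r, (hq r).trans hr⟩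
  have hker : LinearMap.ker q ≤ LinearMap.ker (LinearMap.toSpanSingleton Γ(P, U) _ s) := fun r hr =>
    hs r ((hq r).symm.trans hr)
  let L : Γ(pushO ι, U) →ₗ[Γ(P, U)] Γ(N, U) :=
    ((LinearMap.ker q).liftQ _ hker).comp (q.quotKerEquivOfSurjective hsurj).symm.toLinearMap
  obtain ⟨φ, hφ⟩ := Existence.exists_locHom hU L
  refine ⟨φ, (hφ (oneSec ι U)).trans ?_⟩
  have hq1 : oneSec ι U = q 1 := (one_smul _ _).symm
  rw [hq1]
  show (LinearMap.ker q).liftQ _ hker ((q.quotKerEquivOfSurjective hsurj).symm (q 1)) = s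
  rw [LinearMap.quotKerEquivOfSurjective_symm_apply]
  exact one_smul _ s

variable {F : P.Modules} (I : InjectiveResolution F)

/-- The differential of `Hom(ι_* O, I^•)` at the unit section. -/
theorem val_d (i j : ℕ) {U : P.Opens} (φ : Γ((homCx (pushO ι) I).X i, U)) :
    val ι (((homCx (pushO ι) I).d i j).app U φ) =
      (I.cocomplex.d i j).app U (val ι (N := I.cocomplex.X i) φ) :=
  val_map ι (I.cocomplex.d i j) φ

end Val

/-- Sections of the cycles of a complex. -/
theorem exists_cycles {P : Scheme.{u}} (C : CochainComplex P.Modules ℕ) (i : ℕ) {U : P.Opens}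
    (φ : Γ(C.X i, U)) (h : (C.d i (i + 1)).app U φ = 0) :
    ∃ z : Γ(C.cycles i, U), (C.iCycles i).app U z = φ := by
  let a : (freeModOn P).obj U ⟶ C.X i := (freeModOnEquiv U (C.X i)).symm φ
  have ha : a ≫ C.d i (i + 1) = 0 := by
    refine (freeModOnEquiv U _).injective ?_
    rw [freeModOnEquiv_comp, Equiv.apply_symm_apply, h]
    exact app_genMod U (0 : (freeModOn P).obj U ⟶ C.X (i + 1))
  refine ⟨freeModOnEquiv U _ (C.liftCycles a (i + 1) (by simp) ha), ?_⟩
  rw [← freeModOnEquiv_comp, HomologicalComplex.liftCycles_i, Equiv.apply_symm_apply]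

theorem d_iCycles {P : Scheme.{u}} (C : CochainComplex P.Modules ℕ) (i : ℕ) {U : P.Opens}
    (z : Γ(C.cycles i, U)) : (C.d i (i + 1)).app U ((C.iCycles i).app U z) = 0 :=
  congrArg (fun φ : C.cycles i ⟶ C.X (i + 1) => φ.app U z) (C.iCycles_d i (i + 1))

end Groth.Agent.FundLocal
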