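import Groth.Agent.FundLocal.Conormal
import Groth.Agent.FundLocal.Sections
import Groth.Agent.FlatMorKoszul.Basic
import Groth.Agent.DefFin29.Functional

/-!
# The fundamental local isomorphism

For a regular immersion `ι` of codimension `r` and `L = ⋀^r` of the conormal sheaf, the residue along a regular
sequence identifies `Ext^r(ι_* O, F)` with `ι_* Hom(L, ι^* F)`; it does not depend on the sequence.
-/

set_option autoImplicit false
set_option linter.style.haveILetI false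
set_option linter.unusedSectionVars false
set_option backward.isDefEq.respectTransparency false
set_option backward.isDefEq.respectTransparency.types false

universe u

open CategoryTheory CategoryTheory.Limits AlgebraicGeometry Opposite TopologicalSpace
open Groth.Agent.Coherent Groth.Agent.PicLib Groth.Agent.AmpleLib Groth.Agent.SerreDual

namespace Groth.Agent.FundLocal

section HomTo

variable {X : Scheme.{u}} {L Q : X.Modules} {V : X.Opens} {l : Γ(L, V)} (hl : IsGen L V l)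

/-- The map sending a generator to a given section. -/
noncomputable def homTo (q : Γ(Q, V)) : Γ(internalHom L Q, V) :=
  (show locHom L Q V from
    ⟨fun W hW => AddMonoidHom.mk' (fun a => hl.coef hW a • resM Q hW q)
        (fun a a' => by rw [hl.coef_add, add_smul]),
      fun W hW s a => by
        show hl.coef hW (s • a) • resM Q hW q = s • (hl.coef hW a • resM Q hW q)
        rw [hl.coef_smul, mul_smul],
      fun W W' hW h a => by
        show resM Q h (hl.coef hW a • resM Q hW q) = hl.coef (h.trans hW) (resM L h a) • resM Q (h.trans hW) q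
        rw [resM_smul, resM_resM, hl.coef_res]⟩)

theorem ev_homTo (q : Γ(Q, V)) : ev (secHom (homTo hl q)) V le_rfl l = q := by
  show hl.coef le_rfl l • resM Q le_rfl q = q
  rw [hl.coef_eq le_rfl (r := 1) (by rw [one_smul, PicLib.resM_self]), one_smul, PicLib.resM_self]

include hl in
theorem sec_ext_gen (y y' : Γ(internalHom L Q, V))
    (h : ev (secHom y) V le_rfl l = ev (secHom y') V le_rfl l) : y = y' :=
  locHom_ext (φ := secHom y) (ψ := secHom y') fun W hW a => by
    rw [← hl.coef_spec hW a, ev_smul_arg, ev_smul_arg, ← ev_res (secHom y) le_rfl hW,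
      ← ev_res (secHom y') le_rfl hW, h]

end HomTo

variable {P X : Scheme.{u}} (ι : X ⟶ P) [IsClosedImmersion ι] {F : P.Modules} [Coh.IsQCoh F]

theorem pullSec_zero (U : P.Opens) : PicLib.pullSec ι (0 : Γ(F, U)) = 0 :=
  map_zero (((Scheme.Modules.pullbackPushforwardAdjunction ι).unit.app F).app U).hom

theorem pullSec_add (U : P.Opens) (x y : Γ(F, U)) :
    PicLib.pullSec ι (x + y) = PicLib.pullSec ι x + PicLib.pullSec ι y :=
  map_add (((Scheme.Modules.pullbackPushforwardAdjunction ι).unit.app F).app U).hom x y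

theorem pullSec_eq_zero {U : P.Opens} {x : Γ(F, U)} (hx : x ∈ idl ι U • (⊤ : Submodule Γ(P, U) Γ(F, U))) :
    PicLib.pullSec ι x = 0 := by
  induction hx using Submodule.smul_induction_on' with
  | smul a ha m _ => rw [PicLib.pullSec_smul, show ι.app U a = 0 from ha, zero_smul]
  | add a _ b _ ha hb => rw [pullSec_add, ha, hb, add_zero]

theorem pullSec_eq_of_sub_mem {U : P.Opens} {x x' : Γ(F, U)}
    (h : x - x' ∈ idl ι U • (⊤ : Submodule Γ(P, U) Γ(F, U))) :
    PicLib.pullSec ι x = PicLib.pullSec ι x' := by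
  have h' := pullSec_eq_zero ι h
  conv_lhs => rw [← sub_add_cancel x x']
  rw [pullSec_add, h', zero_add]

/-- On an affine open the sections of `ι^* F` are `F(U) / J F(U)`. -/
theorem pullSec_affine {U : P.Opens} (hU : IsAffineOpen U) :
    Function.Surjective (fun x : Γ(F, U) => PicLib.pullSec ι x) ∧
      ∀ x : Γ(F, U), PicLib.pullSec ι x = 0 → x ∈ idl ι U • (⊤ : Submodule Γ(P, U) Γ(F, U)) := by
  letI := (ι.appLE U (ι ⁻¹ᵁ U) le_rfl).hom.toAlgebra
  letI := Module.compHom Γ((Scheme.Modules.pullback ι).obj F, ι ⁻¹ᵁ U) (ι.appLE U (ι ⁻¹ᵁ U) le_rfl).hom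
  haveI : IsScalarTower Γ(P, U) Γ(X, ι ⁻¹ᵁ U) Γ((Scheme.Modules.pullback ι).obj F, ι ⁻¹ᵁ U) :=
    IsScalarTower.of_algebraMap_smul fun _ _ => rfl
  obtain ⟨μ, hμ, hμe⟩ := EGA43.InjFibre.pullMap_isBaseChange ι hU (hU.preimage ι) le_rfl F
  have hμp : ∀ x, μ x = PicLib.pullSec ι x := fun x => by
    rw [hμe, Coherent.pullMap_eq_resM_pullSec, PicLib.resM_self]
  have happ : ι.appLE U (ι ⁻¹ᵁ U) le_rfl = ι.app U := Scheme.Hom.appLE_eq_app ι
  have hs : Function.Surjective (Algebra.ofId Γ(P, U) Γ(X, ι ⁻¹ᵁ U)) := fun a => by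
    obtain ⟨b, hb⟩ := ι.app_surjective U hU a
    exact ⟨b, (congr($happ b)).trans hb⟩
  refine ⟨fun y => ?_, fun x hx => ?_⟩
  · refine hμ.inductionOn y (fun y => ∃ x, PicLib.pullSec ι x = y) ⟨0, pullSec_zero ι U⟩ (fun x => ⟨x, (hμp x).symm⟩)
      (fun a y ⟨x, hx⟩ => ?_) (fun y y' ⟨x, hx⟩ ⟨x', hx'⟩ => ⟨x + x', by rw [pullSec_add, hx, hx']⟩)
    obtain ⟨b, rfl⟩ := ι.app_surjective U hU a
    exact ⟨b • x, by rw [PicLib.pullSec_smul, hx]⟩
  · have h0 : (1 : Γ(X, ι ⁻¹ᵁ U)) ⊗ₜ[Γ(P, U)] x = 0 := by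
      rw [← hμ.equiv_symm_apply, hμp, hx, map_zero]
    let q := Ideal.quotientKerAlgEquivOfSurjective (f := Algebra.ofId Γ(P, U) Γ(X, ι ⁻¹ᵁ U)) hs
    have h1 := congrArg (fun t => TensorProduct.quotTensorEquivQuotSMul _ _
      ((TensorProduct.congr q.symm.toLinearEquiv (LinearEquiv.refl Γ(P, U) Γ(F, U))) t)) h0
    simp only [TensorProduct.congr_tmul, LinearEquiv.refl_apply, map_zero, AlgEquiv.toLinearEquiv_apply, map_one,
      TensorProduct.quotTensorEquivQuotSMul_mk_one_tmul, Submodule.Quotient.mk_eq_zero] at h1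
    refine Submodule.smul_mono (fun a ha => ?_) le_rfl h1
    exact (congr($happ a)).symm.trans ha

variable (I : InjectiveResolution F) {r : ℕ} {L : X.Modules}
  (φ : ∀ U : X.affineOpens, (L.val.obj (op U.1)) ≃ₗ[Γ(X, U.1)]
    ↥(⋀[Γ(X, U.1)]^r ((Omega.conormal ι).val.obj (op U.1))))
  (hφ : ∀ (U V : X.affineOpens) (h : V.1 ≤ U.1) (e : Fin r → (Omega.conormal ι).val.obj (op U.1)),
      L.val.map (homOfLE h).op ((φ U).symm (exteriorPower.ιMulti _ r e)) =
        (φ V).symm (exteriorPower.ιMulti _ r (fun j => (Omega.conormal ι).val.map (homOfLE h).op (e j))))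

/-- A sequence spanning the ideal and freely generating `L`. -/
def Frame {U : P.Opens} (hU : IsAffineOpen U) (g : Fin r → idl ι U) : Prop :=
  (∀ g' : Fin r → idl ι U, ∃ c : Matrix (Fin r) (Fin r) Γ(P, U), ∀ i, (g' i).1 = ∑ j, c i j * (g j).1) ∧
    IsGen L (ι ⁻¹ᵁ U) (lGen ι φ hU g)

/-- The cycle `t` goes to `y`. -/
def Spec {U : P.Opens} (hU : IsAffineOpen U) (t : Γ(I.cocomplex.X r, U))
    (y : Γ(internalHom L ((Scheme.Modules.pullback ι).obj F), ι ⁻¹ᵁ U)) : Prop :=
  ∀ (g : Fin r → idl ι U) (x : Γ(F, U)), IsRes (dI I U) (εI I U) (fun i => (g i).1) t x →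
    ev (secHom y) (ι ⁻¹ᵁ U) le_rfl (lGen ι φ hU g) = PicLib.pullSec ι x

/-- The underlying section of a cycle. -/
noncomputable def tv (U : P.Opens) (z : Γ((homCx (pushO ι) I).cycles r, U)) : Γ(I.cocomplex.X r, U) :=
  val ι (N := I.cocomplex.X r) (((homCx (pushO ι) I).iCycles r).app U z)

theorem d_tv (U : P.Opens) (z : Γ((homCx (pushO ι) I).cycles r, U)) : dI I U r (tv ι I U z) = 0 := by
  show (I.cocomplex.d r (r + 1)).app U (tv ι I U z) = 0
  rw [tv, ← val_d, d_iCycles]
  rfl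

theorem smul_tv {U : P.Opens} (z : Γ((homCx (pushO ι) I).cycles r, U)) (a : idl ι U) :
    a.1 • tv ι I U z = 0 := smul_val ι a.2 _

theorem span_le_idl {U : P.Opens} (g : Fin r → idl ι U) :
    Ideal.span (Set.range fun i => (g i).1) ≤ idl ι U := by
  rw [Ideal.span, Submodule.span_le]
  rintro _ ⟨i, rfl⟩
  exact (g i).2

theorem exists_res {U : P.Opens} (hU : IsAffineOpen U) (g : Fin r → idl ι U)
    (z : Γ((homCx (pushO ι) I).cycles r, U)) :
    ∃ x, IsRes (dI I U) (εI I U) (fun i => (g i).1) (tv ι I U z) x :=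
  exists_isRes (exact_εI I U) (exact_dI I hU) (d_tv ι I U z) fun i => smul_tv ι I z (g i)

theorem res_unique {U : P.Opens} (hU : IsAffineOpen U) {g : Fin r → idl ι U} {t : Γ(I.cocomplex.X r, U)}
    {x x' : Γ(F, U)} (h : IsRes (dI I U) (εI I U) (fun i => (g i).1) t x)
    (h' : IsRes (dI I U) (εI I U) (fun i => (g i).1) t x') : PicLib.pullSec ι x = PicLib.pullSec ι x' :=
  pullSec_eq_of_sub_mem ι
    (Submodule.smul_mono_left (span_le_idl ι g)
      (h.sub_mem (εI_injective I U) (exact_εI I U) (exact_dI I hU) h'))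

/-- A frame determines the image of a cycle, independently of the frame. -/
theorem exists_spec {U : P.Opens} (hU : IsAffineOpen U) {g : Fin r → idl ι U} (hg : Frame ι φ hU g)
    (z : Γ((homCx (pushO ι) I).cycles r, U)) :
    ∃! y, Spec ι I φ hU (tv ι I U z) y := by
  obtain ⟨x, hx⟩ := exists_res ι I hU g z
  refine ⟨homTo hg.2 (PicLib.pullSec ι x), fun g' x' hx' => ?_, fun y hy =>
    sec_ext_gen hg.2 _ _ ((hy g x hx).trans (ev_homTo hg.2 _).symm)⟩
  obtain ⟨c, hc⟩ := hg.1 g'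
  rw [lGen_change ι φ hU g g' c hc, ev_smul_arg, ev_homTo, ← PicLib.pullSec_smul]
  exact res_unique ι I hU (hx.change hc) hx'

/-- Affine opens with a frame. -/
abbrev FrameOpens : Type u := {U : P.affineOpens // ∃ g : Fin r → idl ι U.1, Frame ι φ U.2 g}

/-- The image of a cycle. -/
noncomputable def img (j : FrameOpens ι φ) (z : Γ((homCx (pushO ι) I).cycles r, j.1.1)) :
    Γ(internalHom L ((Scheme.Modules.pullback ι).obj F), ι ⁻¹ᵁ j.1.1) :=
  (exists_spec ι I φ j.1.2 j.2.choose_spec z).choose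

theorem img_spec (j : FrameOpens ι φ) (z : Γ((homCx (pushO ι) I).cycles r, j.1.1)) :
    Spec ι I φ j.1.2 (tv ι I j.1.1 z) (img ι I φ j z) :=
  (exists_spec ι I φ j.1.2 j.2.choose_spec z).choose_spec.1

theorem img_eq (j : FrameOpens ι φ) (z : Γ((homCx (pushO ι) I).cycles r, j.1.1))
    (y : Γ(internalHom L ((Scheme.Modules.pullback ι).obj F), ι ⁻¹ᵁ j.1.1))
    (h : Spec ι I φ j.1.2 (tv ι I j.1.1 z) y) : img ι I φ j z = y :=
  ((exists_spec ι I φ j.1.2 j.2.choose_spec z).choose_spec.2 y h).symm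

include hφ in
theorem img_res (j j' : FrameOpens ι φ) (h : j.1.1 ≤ j'.1.1) (z : Γ((homCx (pushO ι) I).cycles r, j'.1.1)) :
    img ι I φ j (resM _ h z) =
      resM (internalHom L ((Scheme.Modules.pullback ι).obj F)) ((Opens.map ι.base).map (homOfLE h)).le
        (img ι I φ j' z) := by
  obtain ⟨g, hg⟩ := j'.2
  obtain ⟨x, hx⟩ := exists_res ι I j'.1.2 g z
  letI := (P.presheaf.map (homOfLE h).op).hom.toAlgebra
  have hx' := hx.map (dG' := dI I j.1.1) (ε' := εI I j.1.1) (fun i => resM (I.cocomplex.X i) h) (resM F h)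
    (fun i a z => resM_smul (I.cocomplex.X i) h a z) (fun i z => dI_res I h i z) (fun x => εI_res I h x)
  have ht : resM (I.cocomplex.X r) h (tv ι I j'.1.1 z) = tv ι I j.1.1 (resM _ h z) := by
    rw [tv, tv, app_resM]
    exact (val_res ι h (((homCx (pushO ι) I).iCycles r).app j'.1.1 z)).symm
  rw [ht] at hx'
  have hgen := hg.2.restrict ((Opens.map ι.base).map (homOfLE h)).le
  rw [lGen_res ι φ hφ j'.1.2 j.1.2 h] at hgen
  refine sec_ext_gen hgen _ _ ?_
  rw [img_spec ι I φ j (resM _ h z) _ _ hx', resM_internalHom, ← lGen_res ι φ hφ j'.1.2 j.1.2 h,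
    ← ev_res (secHom (img ι I φ j' z)) le_rfl, img_spec ι I φ j' z _ _ hx, PicLib.resM_pullSec]

theorem tv_smul (U : P.Opens) (a : Γ(P, U)) (z : Γ((homCx (pushO ι) I).cycles r, U)) :
    tv ι I U (a • z) = a • tv ι I U z := by
  rw [tv, tv, Scheme.Modules.Hom.app_smul]
  exact val_smul ι a _

theorem tv_add (U : P.Opens) (z z' : Γ((homCx (pushO ι) I).cycles r, U)) :
    tv ι I U (z + z') = tv ι I U z + tv ι I U z' := by
  rw [tv, tv, tv, map_add]
  exact val_add ι _ _

theorem tv_injective (U : P.Opens) : Function.Injective (tv ι I (r := r) U) := fun _ _ h =>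
  app_injective_of_mono _ U (val_injective ι U h)

include hφ in
theorem img_add (j : FrameOpens ι φ) (z z' : Γ((homCx (pushO ι) I).cycles r, j.1.1)) :
    img ι I φ j (z + z') = img ι I φ j z + img ι I φ j z' := by
  refine img_eq ι I φ j _ _ fun g x hx => ?_
  obtain ⟨a, ha⟩ := exists_res ι I j.1.2 g z
  obtain ⟨b, hb⟩ := exists_res ι I j.1.2 g z'
  rw [tv_add] at hx
  rw [← res_unique ι I j.1.2 (ha.add hb) hx, pullSec_add, ← img_spec ι I φ j z g a ha,
    ← img_spec ι I φ j z' g b hb]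
  rfl

theorem ev_smul_self {V : X.Opens} {M N : X.Modules} (s : Γ(X, V)) (y : Γ(internalHom M N, V)) (l : Γ(M, V)) :
    ev (secHom (s • y)) V le_rfl l = s • ev (secHom y) V le_rfl l := by
  show (X.presheaf.map (homOfLE (le_refl V)).op s : Γ(X, V)) • ev (secHom y) V le_rfl l = _
  rw [show X.presheaf.map (homOfLE (le_refl V)).op s = s from
    ConcreteCategory.congr_hom (X.presheaf.map_id (op V)) s]

include hφ in
theorem img_smul (j : FrameOpens ι φ) (c : Γ(P, j.1.1)) (z : Γ((homCx (pushO ι) I).cycles r, j.1.1)) :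
    img ι I φ j (c • z) = ι.app j.1.1 c • img ι I φ j z := by
  refine img_eq ι I φ j _ _ fun g x hx => ?_
  obtain ⟨a, ha⟩ := exists_res ι I j.1.2 g z
  rw [tv_smul] at hx
  rw [← res_unique ι I j.1.2 (ha.smul c) hx, PicLib.pullSec_smul, ev_smul_self, img_spec ι I φ j z g a ha]

theorem subsingleton_sections {M : X.Modules} {V : X.Opens} (h : (1 : Γ(X, V)) = 0) : Subsingleton Γ(M, V) :=
  ⟨fun a b => by rw [← one_smul Γ(X, V) a, ← one_smul Γ(X, V) b, h, zero_smul, zero_smul]⟩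

theorem subsingleton_res {V V' : X.Opens} (hV : V' ≤ V) (h : (1 : Γ(X, V)) = 0) : (1 : Γ(X, V')) = 0 := by
  have h' := congrArg (X.presheaf.map (homOfLE hV).op) h
  rwa [map_one, map_zero] at h'

theorem one_eq_zero_of_top {U : P.Opens} (h : idl ι U = ⊤) : (1 : Γ(X, ι ⁻¹ᵁ U)) = 0 :=
  (map_one (ι.app U).hom).symm.trans (RingHom.mem_ker.1 (h ▸ Submodule.mem_top : (1 : Γ(P, U)) ∈ idl ι U))

/-- Off the subscheme, or along a regular sequence. -/
def Nice (r : ℕ) (U : P.Opens) : Prop :=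
  idl ι U = ⊤ ∨ ∃ g : Fin r → idl ι U,
    Ideal.span (Set.range fun i => (g i).1) = idl ι U ∧ CAlgH.KoszulRegular.KReg fun i => (g i).1

include hφ in
theorem exists_frame {U : P.Opens} (hU : IsAffineOpen U) (h : Nice ι r U) :
    ∃ g : Fin r → idl ι U, Frame ι φ hU g := by
  obtain h | ⟨g, hspan, hK⟩ := h
  · refine ⟨fun _ => ⟨1, h ▸ Submodule.mem_top⟩, fun g' => ⟨Matrix.diagonal fun i => (g' i).1, fun i => ?_⟩,
      fun V hV => ?_⟩
    · simp [Matrix.diagonal_apply]
    · have h1 := subsingleton_res hV (one_eq_zero_of_top ι h)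
      haveI := subsingleton_sections (M := L) h1
      haveI : Subsingleton Γ(X, V) := ⟨fun a b => by rw [← one_mul a, ← one_mul b, h1, zero_mul, zero_mul]⟩
      exact ⟨fun _ _ _ => Subsingleton.elim _ _, fun _ => ⟨0, Subsingleton.elim _ _⟩⟩
  · refine ⟨g, fun g' => ?_, isGen_lGen ι φ hφ hU g hspan hK⟩
    have hex : ∀ i, ∃ v : Fin r → Γ(P, U), ∑ j, v j * (g j).1 = (g' i).1 := fun i =>
      (Submodule.mem_span_range_iff_exists_fun _).1 (hspan.ge (g' i).2)
    choose v hv using hex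
    exact ⟨v, fun i => (hv i).symm⟩

/-- Nice affine opens form a basis. -/
theorem exists_nice (hι : RegImm.IsRegularImmersionOfCodim RegImm.Kind.regular r ι) {V : P.Opens} {y : P}
    (hy : y ∈ V) : ∃ W : P.affineOpens, y ∈ W.1 ∧ W.1 ≤ V ∧ Nice ι r W.1 := by
  by_cases hyX : y ∈ Set.range ι.base
  · obtain ⟨x, rfl⟩ := hyX
    obtain ⟨U, hxU, -, rs, rfl, hseq, hker⟩ := hι.2 x
    obtain ⟨f, hfV, hxf⟩ := U.2.exists_basicOpen_le ⟨_, hy⟩ hxU
    refine ⟨P.affineBasicOpen f, hxf, hfV, Or.inr ?_⟩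
    have hle : (P.affineBasicOpen f).1 ≤ U.1 := P.basicOpen_le f
    let ρ := (P.presheaf.map (homOfLE hle).op).hom
    have hg : ∀ i, rs.get i ∈ idl ι U.1 := fun i => by
      show rs.get i ∈ RingHom.ker (ι.app U.1).hom
      rw [hker]
      exact Ideal.subset_span (List.get_mem rs i)
    have hrs : Ideal.span (Set.range fun i => rs.get i) = idl ι U.1 := by
      show _ = RingHom.ker (ι.app U.1).hom
      rw [hker]
      refine congrArg Ideal.span (Set.ext fun a => ⟨?_, fun ha => ?_⟩)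
      · rintro ⟨i, rfl⟩; exact List.get_mem rs i
      · obtain ⟨i, hi⟩ := List.mem_iff_get.1 ha
        exact ⟨i, hi⟩
    refine ⟨fun i => ⟨ρ (rs.get i), res_mem_idl ι hle (hg i)⟩, ?_, ?_⟩
    · have hmap := ι.ker.map_ideal (U := P.affineBasicOpen f) (V := U) hle
      rw [Scheme.Hom.ker_apply, Scheme.Hom.ker_apply] at hmap
      refine Eq.trans ?_ hmap
      show _ = Ideal.map ρ (idl ι U.1)
      rw [← hrs, Ideal.map_span, ← Set.range_comp]
      rfl
    · have hK : CAlgH.KoszulRegular.KReg (fun i => rs.get i) :=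
        SDiv28.RegSeq.kreg_of_regular (by rw [List.ofFn_get]; exact hseq.toIsWeaklyRegular)
      haveI := U.2.isLocalization_basicOpen f
      exact FlatMorKoszul.kreg_map
        (RingHom.flat_algebraMap_iff.2 (IsLocalization.flat Γ(P, P.basicOpen f) (Submonoid.powers f))) hK
  · have hopen : IsOpen (Set.range ι.base)ᶜ := ι.isClosedEmbedding.isClosed_range.isOpen_compl
    obtain ⟨W, hW, hyW, hWV⟩ := Opens.isBasis_iff_nbhd.mp P.isBasis_affineOpens
      (show y ∈ V ⊓ ⟨_, hopen⟩ from ⟨hy, hyX⟩)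
    refine ⟨⟨W, hW⟩, hyW, hWV.trans inf_le_left, Or.inl ((Ideal.eq_top_iff_one _).2 ?_)⟩
    have hbot : ι ⁻¹ᵁ W = ⊥ := Opens.ext (Set.eq_empty_of_forall_notMem fun x hx => (hWV hx).2 ⟨x, rfl⟩)
    haveI : Subsingleton Γ(X, ι ⁻¹ᵁ W) := by
      rw [hbot]
      exact CommRingCat.subsingleton_of_isTerminal X.sheaf.isTerminalOfEmpty
    exact Subsingleton.elim _ _

include hφ in
/-- The residue map on cycles. -/
theorem exists_residue (hι : RegImm.IsRegularImmersionOfCodim RegImm.Kind.regular r ι) :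
    ∃ Φ : (homCx (pushO ι) I).cycles r ⟶
        (Scheme.Modules.pushforward ι).obj (internalHom L ((Scheme.Modules.pullback ι).obj F)),
      ∀ (U : P.Opens) (hU : IsAffineOpen U), Nice ι r U → ∀ z, Spec ι I φ hU (tv ι I U z) (Φ.app U z) := by
  have hB : Opens.IsBasis (Set.range fun j : FrameOpens ι φ => j.1.1) := by
    rw [Opens.isBasis_iff_nbhd]
    intro V y hy
    obtain ⟨W, hyW, hWV, hW⟩ := exists_nice ι hι hy
    exact ⟨W.1, ⟨⟨W, exists_frame ι φ hφ W.2 hW⟩, rfl⟩, hyW, hWV⟩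
  obtain ⟨Φ, hΦ⟩ := DefFin29.exists_hom_of_basis (F := (homCx (pushO ι) I).cycles r)
    (G := (Scheme.Modules.pushforward ι).obj (internalHom L ((Scheme.Modules.pullback ι).obj F)))
    (fun j : FrameOpens ι φ => j.1.1) hB
    (fun j => AddMonoidHom.mk' (fun z => img ι I φ j z) (img_add ι I φ hφ j))
    (fun j j' h z => img_res ι I φ hφ j j' h z) (fun j c z => img_smul ι I φ hφ j c z)
  refine ⟨Φ, fun U hU hN z => ?_⟩
  obtain ⟨g, hg⟩ := exists_frame ι φ hφ hU hN
  have h := hΦ ⟨⟨U, hU⟩, g, hg⟩ z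
  rw [h]
  exact img_spec ι I φ ⟨⟨U, hU⟩, g, hg⟩ z

variable (Φ : (homCx (pushO ι) I).cycles r ⟶
        (Scheme.Modules.pushforward ι).obj (internalHom L ((Scheme.Modules.pullback ι).obj F)))
  (hΦ : ∀ (U : P.Opens) (hU : IsAffineOpen U), Nice ι r U → ∀ z, Spec ι I φ hU (tv ι I U z) (Φ.app U z))

theorem subsingleton_hom {V : X.Opens} {M N : X.Modules} (h : (1 : Γ(X, V)) = 0) :
    Subsingleton Γ(internalHom M N, V) := subsingleton_sections h

include hφ hΦ in
theorem residue_surjective {U : P.Opens} (hU : IsAffineOpen U) (hN : Nice ι r U) :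
    Function.Surjective (Φ.app U) := by
  intro y
  obtain h | ⟨g, hspan, hK⟩ := hN
  · haveI := subsingleton_hom (M := L) (N := (Scheme.Modules.pullback ι).obj F) (one_eq_zero_of_top ι h)
    exact ⟨0, Subsingleton.elim (α := Γ(internalHom L ((Scheme.Modules.pullback ι).obj F), ι ⁻¹ᵁ U)) _ _⟩
  obtain ⟨x, hx⟩ := (pullSec_affine ι hU).1 (ev (secHom y) (ι ⁻¹ᵁ U) le_rfl (lGen ι φ hU g))
  obtain ⟨t, htd, htg, ht⟩ := exists_of_isRes (exact_εI I U) (exact_dI I hU)
    (fun i => haveI := I.injective i; injective_sections (I.cocomplex.X i) hU) hK x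
  obtain ⟨ψ, hψ⟩ := exists_val ι hU t fun a ha => by
    have hle : Ideal.span (Set.range fun i => (g i).1) ≤ Submodule.comap (LinearMap.toSpanSingleton Γ(P, U) _ t) ⊥ := by
      rw [Ideal.span, Submodule.span_le]
      rintro _ ⟨i, rfl⟩
      exact htg i
    exact hle (hspan.ge ha)
  obtain ⟨z, hz⟩ := exists_cycles (homCx (pushO ι) I) r ψ (val_injective ι U (N := I.cocomplex.X (r + 1)) (by
    rw [val_d, hψ]
    exact htd))
  have htv : tv ι I U z = t := by rw [tv, hz, hψ]
  have hev := hΦ U hU (Or.inr ⟨g, hspan, hK⟩) z g x (htv.symm ▸ ht)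
  exact ⟨z, sec_ext_gen (isGen_lGen ι φ hφ hU g hspan hK) _ _ (hev.trans hx)⟩

include hφ hΦ in
theorem residue_kernel {U : P.Opens} (hU : IsAffineOpen U) (hN : Nice ι r U)
    (z : Γ((homCx (pushO ι) I).cycles r, U)) (hz : Φ.app U z = 0) :
    ∃ s, ((homCx (pushO ι) I).toCycles (r - 1) r).app U s = z := by
  have hzero : ∀ w : Γ((homCx (pushO ι) I).cycles r, U), tv ι I U w = 0 → w = 0 := fun w hw =>
    tv_injective ι I U (hw.trans (by rw [tv, map_zero]; rfl))
  obtain h | ⟨g, hspan, hK⟩ := hN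
  · refine ⟨0, ?_⟩
    rw [map_zero, hzero z]
    have := smul_tv ι I z ⟨1, h ▸ Submodule.mem_top⟩
    rwa [one_smul] at this
  obtain ⟨x, hx⟩ := exists_res ι I hU g z
  have hp : PicLib.pullSec ι x = 0 := by
    rw [← hΦ U hU (Or.inr ⟨g, hspan, hK⟩) z g x hx, hz]
    rfl
  have hxm : x ∈ Ideal.span (Set.range fun i => (g i).1) • (⊤ : Submodule Γ(P, U) Γ(F, U)) := by
    rw [hspan]; exact (pullSec_affine ι hU).2 x hp
  cases r with
  | zero =>
    refine ⟨0, ?_⟩
    rw [map_zero, hzero z]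
    have hx0 : x = 0 := by
      rw [show Ideal.span (Set.range fun i => (g i).1) = ⊥ by
        rw [Set.range_eq_empty, Ideal.span_empty], Submodule.bot_smul] at hxm
      exact hxm
    exact (show εI I U x = tv ι I U z from hx).symm.trans (by rw [hx0, map_zero])
  | succ m =>
    obtain ⟨s, hs, hds⟩ := hx.exists_boundary (exact_εI I U) (exact_dI I hU)
      (fun i => haveI := I.injective i; injective_sections (I.cocomplex.X i) hU) hK hxm
    obtain ⟨ψ, hψ⟩ := exists_val ι hU s fun a ha => by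
      have hle : Ideal.span (Set.range fun i => (g i).1) ≤ Submodule.comap (LinearMap.toSpanSingleton Γ(P, U) _ s) ⊥ := by
        rw [Ideal.span, Submodule.span_le]
        rintro _ ⟨i, rfl⟩
        exact hs i
      exact hle (hspan.ge ha)
    show ∃ s, ((homCx (pushO ι) I).toCycles m (m + 1)).app U s = z
    refine ⟨ψ, tv_injective ι I U ?_⟩
    rw [← hds, tv]
    rw [show ((homCx (pushO ι) I).iCycles (m + 1)).app U (((homCx (pushO ι) I).toCycles m (m + 1)).app U ψ) =
      ((homCx (pushO ι) I).d m (m + 1)).app U ψ from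
      congrArg (fun f => f.app U ψ) ((homCx (pushO ι) I).toCycles_i m (m + 1)), val_d, hψ]
    rfl

include hφ hΦ in
theorem residue_boundary (hι : RegImm.IsRegularImmersionOfCodim RegImm.Kind.regular r ι) :
    (homCx (pushO ι) I).toCycles (r - 1) r ≫ Φ = 0 := by
  refine Scheme.Modules.hom_ext _ _ fun V => ConcreteCategory.hom_ext _ _ fun s => AmpleLib.sec_ext _ _ _ fun y hy => ?_
  obtain ⟨W, hyW, hWV, hW⟩ := exists_nice ι hι hy
  refine ⟨W.1, hWV, hyW, ?_⟩
  rw [← app_resM, ← app_resM]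
  generalize resM ((homCx (pushO ι) I).X (r - 1)) hWV s = ψ
  show Φ.app W.1 (((homCx (pushO ι) I).toCycles (r - 1) r).app W.1 ψ) = 0
  obtain ⟨g, hg⟩ := exists_frame ι φ hφ W.2 hW
  refine sec_ext_gen hg.2 _ _ ?_
  obtain ⟨x, hx⟩ := exists_res ι I W.2 g (((homCx (pushO ι) I).toCycles (r - 1) r).app W.1 ψ)
  rw [hΦ W.1 W.2 hW _ g x hx]
  refine (pullSec_eq_zero ι ?_).trans rfl
  refine Submodule.smul_mono_left (span_le_idl ι g) ?_
  have htv : tv ι I W.1 (((homCx (pushO ι) I).toCycles (r - 1) r).app W.1 ψ) =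
      (I.cocomplex.d (r - 1) r).app W.1 (val ι (N := I.cocomplex.X (r - 1)) ψ) := by
    rw [tv, show ((homCx (pushO ι) I).iCycles r).app W.1 (((homCx (pushO ι) I).toCycles (r - 1) r).app W.1 ψ) =
      ((homCx (pushO ι) I).d (r - 1) r).app W.1 ψ from
      congrArg (fun f => f.app W.1 ψ) ((homCx (pushO ι) I).toCycles_i (r - 1) r), val_d]
  rw [htv] at hx
  cases r with
  | zero =>
    rw [I.cocomplex.shape _ _ (by simp)] at hx
    exact IsRes.mem_zero (εI_injective I W.1) (exact_εI I W.1) (exact_dI I W.2) hx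
  | succ m =>
    exact IsRes.mem_d (εI_injective I W.1) (exact_εI I W.1) (exact_dI I W.2)
      (fun i => smul_val ι (g i).2 ψ) hx

include hφ hΦ in
/-- The fundamental local isomorphism. -/
theorem nonempty_homology_iso_of_residue (hι : RegImm.IsRegularImmersionOfCodim RegImm.Kind.regular r ι) :
    Nonempty ((homCx (pushO ι) I).homology r ≅
      (Scheme.Modules.pushforward ι).obj (internalHom L ((Scheme.Modules.pullback ι).obj F))) := by
  have hc := (homCx (pushO ι) I).homologyIsCokernel (r - 1) r (by cases r <;> simp)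
  obtain ⟨θ, hθ⟩ : ∃ θ, (homCx (pushO ι) I).homologyπ r ≫ θ = Φ :=
    ⟨hc.desc (CokernelCofork.ofπ Φ (residue_boundary ι I φ hφ Φ hΦ hι)), hc.fac _ WalkingParallelPair.one⟩
  have hθ' : ∀ (U : P.Opens) z, θ.app U (((homCx (pushO ι) I).homologyπ r).app U z) = Φ.app U z := fun U z =>
    congrArg (fun f => f.app U z) hθ
  suffices hinj : ∀ U, Function.Injective (θ.app U) by
    haveI : Mono θ := ⟨fun g h w => Scheme.Modules.hom_ext _ _ fun U => ConcreteCategory.hom_ext _ _ fun a =>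
      hinj U (congrArg (fun f => f.app U a) w)⟩
    haveI : Epi θ := epi_of_locally_surjective θ fun U y x hx => by
      obtain ⟨W, hxW, hWU, hW⟩ := exists_nice ι hι hx
      obtain ⟨z, hz⟩ := residue_surjective ι I φ hφ Φ hΦ W.2 hW (resM _ hWU y)
      exact ⟨W.1, hWU, hxW, _, (hθ' W.1 z).trans hz⟩
    exact ⟨@asIso _ _ _ _ θ (isIso_of_mono_of_epi θ)⟩
  intro U a b hab
  rw [← sub_eq_zero]
  refine AmpleLib.sec_ext _ _ _ fun y hy => ?_
  obtain ⟨W', hW', hy', c, hc'⟩ := exists_lift_of_epi ((homCx (pushO ι) I).homologyπ r) U (a - b) y hy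
  obtain ⟨W, hyW, hWW', hW⟩ := exists_nice ι hι hy'
  refine ⟨W.1, hWW'.trans hW', hyW, ?_⟩
  rw [map_zero, ← resM_resM _ hW' hWW', ← hc', ← app_resM]
  have h0 : Φ.app W.1 (resM _ hWW' c) = 0 := by
    rw [app_resM, ← hθ', hc', app_resM, map_sub, hab, sub_self, map_zero, map_zero]
  obtain ⟨s, hs⟩ := residue_kernel ι I φ hφ Φ hΦ W.2 hW _ h0
  rw [← hs]
  exact congrArg (fun f => f.app W.1 s) ((homCx (pushO ι) I).toCycles_comp_homologyπ (r - 1) r)

omit φ hφ Φ hΦ in
/-- `Ext^r(ι_* O, F) ≅ ι_* Hom(⋀^r N^∨, ι^* F)`. -/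
theorem nonempty_homology_iso (hι : RegImm.IsRegularImmersionOfCodim RegImm.Kind.regular r ι)
    (hL : ExtPow.IsExtPow r (Omega.conormal ι) L) :
    Nonempty ((homCx (pushO ι) I).homology r ≅
      (Scheme.Modules.pushforward ι).obj (internalHom L ((Scheme.Modules.pullback ι).obj F))) := by
  obtain ⟨φ, hφ⟩ := hL
  obtain ⟨Φ, hΦ⟩ := exists_residue ι I φ hφ hι
  exact nonempty_homology_iso_of_residue ι I φ hφ Φ hΦ hι

end Groth.Agent.FundLocal
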