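import Groth.Agent.ExtFilt28.Main
import Groth.Agent.ExtPowEx28.Basic
import Groth.Agent.LocFreeLib.Semilocal

/-!
# The determinant of an extension of locally free modules of constant rank
-/

set_option autoImplicit false
set_option linter.style.haveILetI false
set_option linter.unusedSectionVars false
set_option backward.isDefEq.respectTransparency.types false
set_option maxHeartbeats 8000000

universe u

open CategoryTheory CategoryTheory.Limits AlgebraicGeometry Opposite TopologicalSpace TensorProduct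
open Groth.Agent.Coherent Groth.Agent.PicLib Groth.Agent.AmpleLib Groth.Agent.GrassLib.PBundle

namespace Groth.Agent.FundLocal

section Algebra

variable {R : Type u} [CommRing R] {M : Type u} [AddCommGroup M] [Module R M]

theorem subsingleton_exteriorPower {a : ℕ} (b : Module.Basis (Fin a) R M) {i : ℕ} (h : a < i) :
    Subsingleton ↥(⋀[R]^i M) := by
  refine ⟨fun x y => (b.exteriorPower i).repr.injective (Finsupp.ext fun s => ?_)⟩
  have h1 := Finset.card_le_univ s.1
  have h2 : s.1.card = i := s.2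
  rw [Fintype.card_fin] at h1
  omega

variable {P P' P'' : Type u} [AddCommGroup P] [Module R P] [AddCommGroup P'] [Module R P'] [AddCommGroup P'']
  [Module R P''] {f : P' →ₗ[R] P} {g : P →ₗ[R] P''} {s : P'' →ₗ[R] P}

open ExtFilt28 in
/-- For ranks `a`, `b` the only piece of the top exterior power is `⋀^a ⊗ ⋀^b`. -/
theorem bijective_mu_lift (hs : Split f g s) (hf : Function.Injective f) {a b : ℕ}
    (bK : Module.Basis (Fin a) R P') (bF : Module.Basis (Fin b) R P'') :
    Function.Bijective (mu f (rfl : a + b = a + b) ∘ₗ lift g s a b) := by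
  haveI := Module.Free.of_basis bK
  haveI := Module.Finite.of_basis bK
  haveI := Module.Free.of_basis bF
  haveI := Module.Finite.of_basis bF
  refine ⟨(injective_iff_map_eq_zero _).2 fun c hc => ?_, fun x => ?_⟩
  · obtain ⟨C, -, h2, h3⟩ := exists_single (f := f) (g := g) (s := s) (rfl : a + b = a + b) c
    refine h3 fun k _ => ?_
    rw [theta_injective hs hf (a + b) (show theta f g s (a + b) C = theta f g s (a + b) 0 by
      rw [map_zero, h2]; exact hc)]
    rfl
  · obtain ⟨C, rfl⟩ := theta_surjective hs (a + b) x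
    have hC : ∀ k : Fin (a + b + 1), (k : ℕ) ≠ a → Subsingleton
        ((⋀[R]^(k : ℕ) P') ⊗[R] (⋀[R]^(a + b - k) P'')) := by
      intro k hk
      refine ⟨fun u v => ?_⟩
      have hz : ∀ t : (⋀[R]^(k : ℕ) P') ⊗[R] (⋀[R]^(a + b - k) P''), t = 0 := fun t => by
        induction t using TensorProduct.induction_on with
        | zero => rfl
        | add x y hx hy => rw [hx, hy, add_zero]
        | tmul x y =>
          rcases lt_or_gt_of_ne hk with h | h
          · haveI := subsingleton_exteriorPower bF (show b < a + b - k by omega)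
            rw [Subsingleton.elim y 0, TensorProduct.tmul_zero]
          · haveI := subsingleton_exteriorPower bK h
            rw [Subsingleton.elim x 0, TensorProduct.zero_tmul]
      rw [hz u, hz v]
    have key : ∀ (j : ℕ) (h : a + j = a + b) (c : (⋀[R]^a P') ⊗[R] (⋀[R]^j P'')),
        mu f h (lift g s a j c) ∈ LinearMap.range (mu f (rfl : a + b = a + b) ∘ₗ lift g s a b) := by
      intro j h c
      obtain rfl : j = b := by omega
      exact ⟨c, rfl⟩
    have hlt : a < a + b + 1 := by omega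
    have hCs : C = Pi.single (⟨a, hlt⟩ : Fin (a + b + 1)) (C ⟨a, hlt⟩) := funext fun k => by
      by_cases hk : k = ⟨a, hlt⟩
      · subst hk; rw [Pi.single_eq_same]
      · haveI := hC k (fun e => hk (Fin.ext e))
        exact Subsingleton.elim _ _
    rw [hCs, theta_single]
    exact key _ _ _

open ExtFilt28 in
theorem mu_eq_mu_lift (hs : Split f g s) {a : ℕ} (bK : Module.Basis (Fin a) R P') :
    ∀ {b : ℕ} (w : (⋀[R]^a P') ⊗[R] (⋀[R]^b P)),
      mu f (rfl : a + b = a + b) w = mu f rfl (lift g s a b (proj g a b w)) := by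
  intro b w
  cases b with
  | zero => rw [lift_proj_zero]
  | succ j =>
    have hmem := mu_sub_lift_mem hs (rfl : a + (j + 1) = a + (j + 1)) (show a + 1 + j = a + (j + 1) by omega) w
    haveI := subsingleton_exteriorPower bK (Nat.lt_succ_self a)
    obtain ⟨z, hz⟩ := hmem
    have hz0 : ∀ z : (⋀[R]^(a + 1) P') ⊗[R] (⋀[R]^j P), z = 0 := fun z => by
      induction z using TensorProduct.induction_on with
      | zero => rfl
      | add x y hx hy => rw [hx, hy, add_zero]
      | tmul x y => rw [Subsingleton.elim x 0, TensorProduct.zero_tmul]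
    rw [hz0 z, map_zero] at hz
    exact sub_eq_zero.1 hz.symm

end Algebra

variable {X : Scheme.{u}} {S : ShortComplex X.Modules}

open ExtFilt28 in
/-- An affine open splitting the extension, with bases of the pieces. -/
theorem exists_rank_good (hS : S.ShortExact) {a b : ℕ} (h₁ : FlatMod.IsFinLocFreeOfRank a S.X₁)
    (h₃ : FlatMod.IsFinLocFreeOfRank b S.X₃) (W : X.Opens) (x : X) (hxW : x ∈ W) :
    ∃ V : X.affineOpens, x ∈ V.1 ∧ V.1 ≤ W ∧ (∃ s, Split (secMap S.f V.1) (secMap S.g V.1) s) ∧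
      Function.Injective (secMap S.f V.1) ∧
      Nonempty (Module.Basis (Fin a) Γ(X, V.1) (S.X₁.val.obj (op V.1))) ∧
      Nonempty (Module.Basis (Fin b) Γ(X, V.1) (S.X₃.val.obj (op V.1))) := by
  classical
  haveI : Coh.IsQCoh S.X₁ := CAlgH3.LocFreeFactor.isQCoh_of_finLocFree (LocFreeLib.isFinLocFree_of_rank h₁)
  obtain ⟨U, hx, ⟨eK⟩⟩ := h₁ x
  obtain ⟨U', hx', ⟨eF⟩⟩ := h₃ x
  obtain ⟨V, hV, hxV, hle⟩ := TopologicalSpace.Opens.isBasis_iff_nbhd.1 X.isBasis_affineOpens
    (show x ∈ W ⊓ (U ⊓ U') from ⟨hxW, hx, hx'⟩)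
  obtain ⟨bK⟩ := Props12.exists_basis_sections eK (hle.trans (inf_le_right.trans inf_le_left))
  obtain ⟨bF⟩ := Props12.exists_basis_sections eF (hle.trans (inf_le_right.trans inf_le_right))
  let bK' : Module.Basis (Fin a) Γ(X, V) (S.X₁.val.obj (op V)) := bK
  let bF' : Module.Basis (Fin b) Γ(X, V) (S.X₃.val.obj (op V)) := bF
  have hg : Function.Surjective (secMap S.g V) := sections_surjective hS hV
  choose l hl using fun k => hg (bF' k)
  have hsec : secMap S.g V ∘ₗ bF'.constr ℕ l = LinearMap.id := bF'.ext fun k => by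
    rw [LinearMap.comp_apply, Module.Basis.constr_basis]; exact hl k
  refine ⟨⟨V, hV⟩, hxV, hle.trans inf_le_left, ⟨bF'.constr ℕ l, LinearMap.ext fun t => sections_zero V t, hsec,
    fun y => ?_⟩, sections_injective hS V, ⟨bK'⟩, ⟨bF'⟩⟩
  refine sections_exact hS (U := V) _ ?_
  show secMap S.g V (y - bF'.constr ℕ l (secMap S.g V y)) = 0
  rw [map_sub, show secMap S.g V (bF'.constr ℕ l (secMap S.g V y)) = secMap S.g V y from
    LinearMap.congr_fun hsec _, sub_self]

open ExtFilt28 in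
/-- The determinant of an extension is the tensor product of the determinants. -/
theorem nonempty_det_iso (hS : S.ShortExact) {a b : ℕ} (h₁ : FlatMod.IsFinLocFreeOfRank a S.X₁)
    (h₃ : FlatMod.IsFinLocFreeOfRank b S.X₃) {L' L L'' : X.Modules} [Coh.IsQCoh L'] [Coh.IsQCoh L]
    [Coh.IsQCoh L''] (hL' : ExtPow.IsExtPow a S.X₁ L') (hL : ExtPow.IsExtPow (a + b) S.X₂ L)
    (hL'' : ExtPow.IsExtPow b S.X₃ L'') : Nonempty (CohB1.tensorMod L' L'' ≅ L) := by
  obtain ⟨Lj, hLjf, hLj⟩ := ExtPowEx28.exists_isExtPow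
    (isFinLocFree_extension hS (LocFreeLib.isFinLocFree_of_rank h₁) (LocFreeLib.isFinLocFree_of_rank h₃)) b
  haveI := CAlgH3.LocFreeFactor.isQCoh_of_finLocFree hLjf
  obtain ⟨φ', c'⟩ := hL'
  obtain ⟨φ, c⟩ := hL
  obtain ⟨φ'', c''⟩ := hL''
  obtain ⟨φj, cj⟩ := hLj
  obtain ⟨μ, hμ⟩ := exists_muHom S.f φ' φj φ c' cj c (rfl : a + b = a + b)
  obtain ⟨π, hπ⟩ := exists_projHom S.g φ' φj φ'' c' cj c''
  let cT : ∀ V : X.affineOpens, Γ(CohB1.tensorMod L' Lj, V.1) ≃ₗ[Γ(X, V.1)]
      (⋀[Γ(X, V.1)]^a (S.X₁.val.obj (op V.1))) ⊗[Γ(X, V.1)] (⋀[Γ(X, V.1)]^b (S.X₂.val.obj (op V.1))) := fun V =>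
    (tmulEquiv L' Lj V).symm.trans (TensorProduct.congr (φ' V) (φj V))
  let cQ : ∀ V : X.affineOpens, Γ(CohB1.tensorMod L' L'', V.1) ≃ₗ[Γ(X, V.1)]
      (⋀[Γ(X, V.1)]^a (S.X₁.val.obj (op V.1))) ⊗[Γ(X, V.1)] (⋀[Γ(X, V.1)]^b (S.X₃.val.obj (op V.1))) := fun V =>
    (tmulEquiv L' L'' V).symm.trans (TensorProduct.congr (φ' V) (φ'' V))
  have hμc : ∀ (V : X.affineOpens) t, μ.app V.1 t = (φ V).symm (mu (secMap S.f V.1) rfl (cT V t)) := fun V t => hμ V t
  have hπc : ∀ (V : X.affineOpens) t, π.app V.1 t = (cQ V).symm (proj (secMap S.g V.1) a b (cT V t)) :=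
    fun V t => hπ V t
  have hkey : ∀ (V : X.affineOpens) (s) (hs : Split (secMap S.f V.1) (secMap S.g V.1) s)
      (bK : Module.Basis (Fin a) Γ(X, V.1) (S.X₁.val.obj (op V.1))) (t),
      μ.app V.1 t = (φ V).symm ((mu (secMap S.f V.1) rfl ∘ₗ lift (secMap S.g V.1) s a b) (cQ V (π.app V.1 t))) := by
    intro V s hs bK t
    rw [hμc, hπc, LinearEquiv.apply_symm_apply, LinearMap.comp_apply]
    exact congrArg _ (mu_eq_mu_lift hs bK (cT V t))
  haveI : Epi π := epi_of_locally_surjective _ fun W q y hy => by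
    obtain ⟨V, hyV, hVW, ⟨s, hs⟩, -, -, -⟩ := exists_rank_good hS h₁ h₃ W y hy
    obtain ⟨w, hw⟩ := proj_surjective hs a b (cQ V (resM _ hVW q))
    refine ⟨V.1, hVW, hyV, (cT V).symm w, ?_⟩
    rw [hπc, LinearEquiv.apply_symm_apply, hw, LinearEquiv.symm_apply_apply]
  have hk : kernel.ι π ≫ μ = 0 := by
    refine Scheme.Modules.hom_ext _ _ fun W => ConcreteCategory.hom_ext _ _ fun t => AmpleLib.sec_ext _ _ _ fun y hy => ?_
    obtain ⟨V, hyV, hVW, ⟨s, hs⟩, -, ⟨bK⟩, -⟩ := exists_rank_good hS h₁ h₃ W y hy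
    refine ⟨V.1, hVW, hyV, ?_⟩
    rw [← app_resM, ← app_resM]
    generalize resM (kernel π) hVW t = t'
    show μ.app V.1 ((kernel.ι π).app V.1 t') = 0
    rw [hkey V s hs bK, kernel_ι_app_zero, map_zero, map_zero, map_zero]; rfl
  let θ := Abelian.epiDesc π μ hk
  have hθ : ∀ (U : X.Opens) t, θ.app U (π.app U t) = μ.app U t := fun U t =>
    congrArg (fun f => f.app U t) (Abelian.comp_epiDesc π μ hk)
  haveI := TwistLib.G.isIso_of_bijective_on_basis θ
    (fun B => ∃ (hB : IsAffineOpen B), (∃ s, Split (secMap S.f B) (secMap S.g B) s) ∧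
      Function.Injective (secMap S.f B) ∧
      Nonempty (Module.Basis (Fin a) Γ(X, B) (S.X₁.val.obj (op B))) ∧
      Nonempty (Module.Basis (Fin b) Γ(X, B) (S.X₃.val.obj (op B))))
    (fun W y hy => by
      obtain ⟨V, hyV, hVW, h⟩ := exists_rank_good hS h₁ h₃ W y hy
      exact ⟨V.1, ⟨V.2, h⟩, hyV, hVW⟩)
    fun B ⟨hB, ⟨s, hs⟩, hinj, ⟨bK⟩, ⟨bF⟩⟩ => by
      let V : X.affineOpens := ⟨B, hB⟩
      have hsurjπ : Function.Surjective (π.app B) := fun q => by
        obtain ⟨w, hw⟩ := proj_surjective hs a b (cQ V q)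
        refine ⟨(cT V).symm w, ?_⟩
        rw [hπc V, LinearEquiv.apply_symm_apply, hw, LinearEquiv.symm_apply_apply]
      have hE : (fun q => θ.app B q) = fun q => (φ V).symm
          ((mu (secMap S.f B) rfl ∘ₗ lift (secMap S.g B) s a b) (cQ V q)) := funext fun q => by
        obtain ⟨t, rfl⟩ := hsurjπ q
        rw [hθ]
        exact hkey V s hs bK t
      show Function.Bijective (fun q => θ.app B q)
      rw [hE]
      exact (φ V).symm.bijective.comp ((bijective_mu_lift hs hinj bK bF).comp (cQ V).bijective)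
  exact ⟨asIso θ⟩

end Groth.Agent.FundLocal
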