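import Groth.Agent.FundLocal.Conormal
import Groth.Agent.Canon15.TopDiff
import Groth.Agent.SDiv28.SmoothRegImm
import Groth.Agent.SDiv28.KoszulH1
import Groth.Agent.Surf15.Adjunction
import Groth.Agent.OmegaLib.LocFree
import Groth.Agent.OmegaLib.DOmega
import Groth.Agent.GrassLib.MapOfEpi

/-!
# A closed immersion of smooth schemes is regular, with conormal sheaf of the expected rank
-/

set_option autoImplicit false
set_option linter.style.haveILetI false
set_option linter.unusedSectionVars false
set_option backward.isDefEq.respectTransparency false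
set_option backward.isDefEq.respectTransparency.types false

universe u

open CategoryTheory CategoryTheory.Limits AlgebraicGeometry Opposite TopologicalSpace
open Groth.Agent.Coherent Groth.Agent.PicLib Groth.Agent.AmpleLib

namespace Groth.Agent.FundLocal

/-- Differentials of a smooth quasi-separated morphism. -/
theorem isFinLocFreeOfRank_omega_qs {X S : Scheme.{u}} (f : X ⟶ S) (n : ℕ) [SmoothOfRelativeDimension n f]
    [QuasiSeparated f] : FlatMod.IsFinLocFreeOfRank n (Omega.sheaf f) := by
  intro x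
  obtain ⟨W, hW, V, hV, hxV, e, hst⟩ :=
    SmoothOfRelativeDimension.exists_isStandardSmoothOfRelativeDimension (n := n) (f := f) x
  letI := (f.appLE W V e).hom.toAlgebra
  haveI : Algebra.IsStandardSmoothOfRelativeDimension n Γ(S, W) Γ(X, V) := hst
  obtain ⟨ψ⟩ := GenSmoothLib.exists_omega_equiv f hV hW e
  haveI : Nontrivial Γ(X, V) := by
    haveI : Nonempty (V.toScheme) := ⟨⟨x, hxV⟩⟩
    infer_instance
  obtain ⟨b⟩ := OmegaLib.exists_basis_kaehler Γ(S, W) Γ(X, V) n
  haveI := MorProj.isQCoh_omega f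
  exact ⟨V, hxV, OmegaLib.exists_iso_freeMod_affine (Omega.sheaf f) hV (b.map ψ)⟩

variable {P X : Scheme.{u}} (ι : X ⟶ P) [IsClosedImmersion ι]

/-- The conormal sheaf over an affine chart with a regular sequence. -/
theorem exists_basis_conormal {U : P.Opens} (hU : IsAffineOpen U) {rs : List Γ(P, U)}
    (hreg : RingTheory.Sequence.IsWeaklyRegular Γ(P, U) rs) (hker : RingHom.ker (ι.app U).hom = Ideal.ofList rs)
    {W : X.Opens} (hWa : IsAffineOpen W) (hW : W ≤ ι ⁻¹ᵁ U) :
    Nonempty (Module.Basis (Fin rs.length) Γ(X, W) Γ(Omega.conormal ι, W)) := by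
  have hg : ∀ i, rs.get i ∈ idl ι U := fun i => by
    show rs.get i ∈ RingHom.ker (ι.app U).hom
    rw [hker]
    exact Ideal.subset_span (List.get_mem rs i)
  have hrs : Ideal.span (Set.range fun i => rs.get i) = idl ι U := by
    show _ = RingHom.ker (ι.app U).hom
    rw [hker]
    refine congrArg Ideal.span (Set.ext fun a => ⟨?_, fun ha => ?_⟩)
    · rintro ⟨i, rfl⟩; exact List.get_mem rs i
    · obtain ⟨i, hi⟩ := List.mem_iff_get.1 ha
      exact ⟨i, hi⟩
  have hb := bijective_cls ι hU (fun i => ⟨rs.get i, hg i⟩) hrs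
    (SDiv28.RegSeq.kreg_of_regular (by rw [List.ofFn_get]; exact hreg)) hWa hW
  exact ⟨Module.Basis.ofEquivFun (LinearEquiv.ofBijective _ hb).symm⟩

theorem isFinLocFreeOfRank_conormal {d : ℕ} (hι : RegImm.IsRegularImmersionOfCodim RegImm.Kind.regular d ι) :
    FlatMod.IsFinLocFreeOfRank d (Omega.conormal ι) := by
  intro x
  obtain ⟨U, hxU, -, rs, rfl, hseq, hker⟩ := hι.2 x
  haveI := Omega15.isQCoh_conormal ι
  obtain ⟨b⟩ := exists_basis_conormal ι U.2 hseq.toIsWeaklyRegular hker (U.2.preimage ι) le_rfl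
  exact ⟨ι ⁻¹ᵁ U.1, hxU, OmegaLib.exists_iso_freeMod_affine (Omega.conormal ι) (U.2.preimage ι) b⟩

variable {S : Scheme.{u}} (g : P ⟶ S) (f : X ⟶ S)

theorem quasiSeparated_of_locallyNoetherian [IsLocallyNoetherian S] [LocallyOfFiniteType g] : QuasiSeparated g := by
  haveI := LocallyOfFiniteType.isLocallyNoetherian g
  infer_instance

/-- A closed immersion of smooth schemes: regular of codimension `n - r`, with `r ≤ n` if non-empty. -/
theorem regular_of_smooth [IsLocallyNoetherian S] (hι : ι ≫ g = f) (n r : ℕ) [SmoothOfRelativeDimension n g]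
    [SmoothOfRelativeDimension r f] :
    RegImm.IsRegularImmersionOfCodim RegImm.Kind.regular (n - r) ι ∧ (Nonempty X → r ≤ n) ∧
      ∃ (a : Omega.conormal ι ⟶ (Scheme.Modules.pullback ι).obj (Omega.sheaf g))
        (c : (Scheme.Modules.pullback ι).obj (Omega.sheaf g) ⟶ Omega.sheaf f) (w : a ≫ c = 0),
        (ShortComplex.mk a c w).ShortExact := by
  haveI : Smooth g := SmoothOfRelativeDimension.smooth n g
  haveI : Smooth f := SmoothOfRelativeDimension.smooth r f
  haveI := quasiSeparated_of_locallyNoetherian g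
  haveI := quasiSeparated_of_locallyNoetherian f
  haveI : Smooth (ι ≫ g) := by rw [hι]; infer_instance
  obtain ⟨a, c, w, hses⟩ := Surf15.exists_conormal_ses g ι
    (Omega15.isFormallySmoothHom_of_smooth (ι ≫ g)) (OmegaSh.dOmega g) (OmegaLib.isUniversal_dOmega g) f hι
    (OmegaSh.dOmega f) (OmegaLib.isUniversal_dOmega f)
  have hreg := SDiv28.SmoothRegImm.isRegularClosedImmersion g ι fun y => by
    haveI := SDiv28.SmoothRegImm.isRegularLocalRing_fiberStalk (ι ≫ g) y
    exact CAlgH.CIHom.isCompleteIntersection_of_regularLocal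
  have key : ∀ x : X, ∃ U : P.affineOpens, ι x ∈ U.1 ∧ ∃ rs : List Γ(P, U.1), rs.length + r = n ∧
      RingTheory.Sequence.IsRegular Γ(P, U.1) rs ∧ RingHom.ker (ι.app U.1).hom = Ideal.ofList rs := by
    intro x
    obtain ⟨U, hU, hxU, rs, hseq, hker⟩ := hreg.2 x
    rw [Scheme.Hom.ker_apply] at hker
    refine ⟨⟨U, hU⟩, hxU, rs, ?_, hseq, hker⟩
    obtain ⟨A, hxA, ⟨eA⟩⟩ :=
      GrassLib.isFinLocFreeOfRank_pullback ι (isFinLocFreeOfRank_omega_qs g n) x
    obtain ⟨B, hxB, ⟨eB⟩⟩ := isFinLocFreeOfRank_omega_qs f r x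
    obtain ⟨(W : X.Opens), hW, hxW, hle⟩ := Opens.isBasis_iff_nbhd.mp X.isBasis_affineOpens
      (show x ∈ ι ⁻¹ᵁ U ⊓ (A ⊓ B) from ⟨hxU, hxA, hxB⟩)
    haveI : Coh.IsQCoh (Omega.conormal ι) := Omega15.isQCoh_conormal ι
    obtain ⟨b₁⟩ := exists_basis_conormal ι hU hseq.toIsWeaklyRegular hker hW (hle.trans inf_le_left)
    obtain ⟨b₂⟩ := Props12.exists_basis_sections eA (hle.trans (inf_le_right.trans inf_le_left))
    obtain ⟨b₃⟩ := Props12.exists_basis_sections eB (hle.trans (inf_le_right.trans inf_le_right))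
    haveI : Nontrivial Γ(X, W) := by
      haveI : Nonempty ((W : X.Opens).toScheme) := ⟨⟨x, hxW⟩⟩
      infer_instance
    let F := appLin a W
    let G := appLin c W
    have hF : Function.Injective F := sections_injective hses W
    have hG : Function.Surjective G := sections_surjective hses hW
    have hFG : ∀ t, G (F t) = 0 := fun t => sections_zero (S := ShortComplex.mk a c w) W t
    choose v hv using fun k => hG (b₃ k)
    let sec := b₃.constr ℕ v
    have hsec : ∀ y, G (sec y) = y := fun y => by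
      have : G ∘ₗ sec = LinearMap.id := b₃.ext fun k => by
        rw [LinearMap.comp_apply, Module.Basis.constr_basis]; exact hv k
      exact LinearMap.congr_fun this y
    let e := LinearEquiv.ofBijective (F.coprod sec) ⟨(injective_iff_map_eq_zero _).2 fun z hz => by
        have h2 : z.2 = 0 := by
          have := congrArg G hz
          rwa [LinearMap.coprod_apply, map_add, hFG, zero_add, hsec, map_zero] at this
        rw [LinearMap.coprod_apply, h2, map_zero, add_zero] at hz
        exact Prod.ext ((map_eq_zero_iff F hF).1 hz) h2,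
      fun y => by
        obtain ⟨t, ht⟩ := sections_exact hses (U := W) (y - sec (G y))
          (show G (y - sec (G y)) = 0 by rw [map_sub, hsec, sub_self])
        exact ⟨(t, G y), by rw [LinearMap.coprod_apply, show F t = _ from ht, sub_add_cancel]⟩⟩
    simpa using Fintype.card_congr (((b₁.prod b₃).map e).indexEquiv b₂)
  refine ⟨⟨inferInstance, fun x => ?_⟩, fun ⟨x⟩ => ?_, a, c, w, hses⟩
  · obtain ⟨U, hxU, rs, hlen, hseq, hker⟩ := key x
    exact ⟨U, hxU, inferInstance, rs, by omega, hseq, hker⟩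
  · obtain ⟨U, -, rs, hlen, -⟩ := key x
    omega

end Groth.Agent.FundLocal
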