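import Groth.Agent.FundLocal.Main
import Groth.Agent.FundLocal.SmoothImm
import Groth.Agent.FundLocal.DetSES
import Groth.Agent.ExtPowEx28.Pull

/-!
# Top forms on a smooth closed subscheme as a sheaf `Ext`
-/

set_option autoImplicit false
set_option linter.style.haveILetI false
set_option linter.unusedSectionVars false
set_option backward.isDefEq.respectTransparency.types false

universe u

open CategoryTheory CategoryTheory.Limits AlgebraicGeometry Opposite TopologicalSpace
open Groth.Agent.Coherent Groth.Agent.PicLib Groth.Agent.AmpleLib Groth.Agent.SerreDual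

namespace Groth.Agent.FundLocal

variable {X : Scheme.{u}}

theorem isZero_of_isEmpty [IsEmpty X] (M : X.Modules) : IsZero M := by
  rw [IsZero.iff_id_eq_zero]
  refine Scheme.Modules.hom_ext _ _ fun U => ConcreteCategory.hom_ext _ _ fun a => ?_
  refine AmpleLib.sec_ext M _ _ fun y _ => ?_
  exact isEmptyElim y

/-- An invertible module can be cancelled from an internal Hom. -/
theorem nonempty_internalHom_cancel {L : X.Modules} (hL : PicF.IsInvertible L) {M N : X.Modules}
    (e : CohB1.tensorMod L M ≅ N) : Nonempty (internalHom L N ≅ M) := by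
  have hLf := SerreDual.isFinLocFree_of_invertible hL
  obtain ⟨v⟩ := nonempty_internalHom_eq_tensor hLf N
  let D := internalHom L (Coh.structureModule X)
  let p : CohB1.tensorMod D L ≅ Coh.structureModule X :=
    tensorComm D L ≪≫ @asIso _ _ _ _ _ (isIso_eval hL (Coh.structureModule X))
  exact ⟨v ≪≫ AmpleLib.tensorIso (Iso.refl D) e.symm ≪≫ (DCat.TensorAssoc.assocIso D L M).symm ≪≫
    AmpleLib.tensorIso p (Iso.refl M) ≪≫ unitTensorIso M⟩

/-- `ι_* Ω^r_X ≅ Ext^{n-r}(ι_* O_X, Ω^n_P)`. -/
theorem nonempty_topForms_iso {S P : Scheme.{u}} [IsLocallyNoetherian S] (g : P ⟶ S) (f : X ⟶ S) (ι : X ⟶ P)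
    [IsClosedImmersion ι] (hι : ι ≫ g = f) (n r : ℕ) [SmoothOfRelativeDimension n g]
    [SmoothOfRelativeDimension r f] {ΩP : P.Modules} (hΩP : ExtPow.IsExtPow n (Omega.sheaf g) ΩP)
    {ΩX : X.Modules} (hΩX : ExtPow.IsExtPow r (Omega.sheaf f) ΩX) (I : InjectiveResolution ΩP) :
    Nonempty ((Scheme.Modules.pushforward ι).obj ΩX ≅ (homCx (pushO ι) I).homology (n - r)) := by
  haveI : Smooth g := SmoothOfRelativeDimension.smooth n g
  haveI : Smooth f := SmoothOfRelativeDimension.smooth r f
  haveI := quasiSeparated_of_locallyNoetherian g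
  haveI := quasiSeparated_of_locallyNoetherian f
  obtain ⟨hreg, hle, a, c, w, hses⟩ := regular_of_smooth ι g f hι n r
  have hN := isFinLocFreeOfRank_conormal ι hreg
  have hF := isFinLocFreeOfRank_omega_qs f r
  have hG := isFinLocFreeOfRank_omega_qs g n
  have hPi := Canon15.isInvertible_of_isExtPow hG hΩP
  haveI := CAlgH3.LocFreeFactor.isQCoh_of_finLocFree (SerreDual.isFinLocFree_of_invertible hPi)
  obtain ⟨L, -, hL⟩ := ExtPowEx28.exists_isExtPow (LocFreeLib.isFinLocFree_of_rank hN) (n - r)
  obtain ⟨e⟩ := nonempty_homology_iso ι I hreg hL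
  suffices h : Nonempty (internalHom L ((Scheme.Modules.pullback ι).obj ΩP) ≅ ΩX) by
    obtain ⟨v⟩ := h
    exact ⟨(Scheme.Modules.pushforward ι).mapIso v.symm ≪≫ e.symm⟩
  rcases isEmpty_or_nonempty X with hX | hX
  · exact ⟨(isZero_of_isEmpty _).iso (isZero_of_isEmpty _)⟩
  obtain ⟨d, rfl⟩ : ∃ d, n = d + r := ⟨n - r, by have := hle hX; omega⟩
  have hd : d + r - r = d := by omega
  have hLi := Canon15.isInvertible_of_isExtPow hN hL
  haveI := CAlgH3.LocFreeFactor.isQCoh_of_finLocFree (SerreDual.isFinLocFree_of_invertible hLi)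
  haveI := CAlgH3.LocFreeFactor.isQCoh_of_finLocFree
    (SerreDual.isFinLocFree_of_invertible (Canon15.isInvertible_of_isExtPow hF hΩX))
  have hpull := ExtPowEx28.isExtPow_pullback_vb ι (LocFreeLib.isFinLocFree_of_rank hG) hΩP
  haveI := CAlgH3.LocFreeFactor.isQCoh_of_finLocFree
    (DCat.PullPerf.isFinLocFree_pullback ι (SerreDual.isFinLocFree_of_invertible hPi))
  rw [hd] at hL hN
  obtain ⟨t⟩ := nonempty_det_iso hses hN hF hL hpull hΩX
  exact nonempty_internalHom_cancel hLi t

end Groth.Agent.FundLocal
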