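import Groth.Agent.FundLocal.Residue
import Groth.Agent.Omega15.UnivConormal
import Groth.Agent.Coherent.PullUnit
import Groth.Agent.PicLib.Invertible
import Groth.Agent.PicLib.PullbackGen
import Groth.Prelude.Def_ExtPow2

/-!
# The generator of the top exterior power of the conormal sheaf given by a regular sequence
-/

set_option autoImplicit false
set_option linter.style.haveILetI false
set_option linter.unusedSectionVars false
set_option backward.isDefEq.respectTransparency false
set_option backward.isDefEq.respectTransparency.types false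

universe u

open CategoryTheory CategoryTheory.Limits AlgebraicGeometry Opposite TopologicalSpace
open Groth.Agent.Coherent Groth.Agent.PicLib Groth.Agent.AmpleLib
open Groth.Agent.Disc12.Koszul (K top exists_coord_top ιMulti_eq_det_smul functional)

namespace Groth.Agent.FundLocal

section Algebra

variable {A : Type u} [CommRing A] {E : Type u} [AddCommGroup E] [Module A E] {r : ℕ}

theorem ιMulti_matrix (c : Matrix (Fin r) (Fin r) A) (v : Fin r → E) :
    exteriorPower.ιMulti A r (fun i => ∑ j, c i j • v j) = c.det • exteriorPower.ιMulti A r v := by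
  let ρ : (Fin r → A) →ₗ[A] E := Fintype.linearCombination A v
  have h := congrArg (exteriorPower.map r ρ) (ιMulti_eq_det_smul (R := A) (n := r) fun i => c i)
  rw [exteriorPower.map_apply_ιMulti, map_smul,
    show exteriorPower.map r ρ top = exteriorPower.ιMulti A r v from
      (exteriorPower.map_apply_ιMulti ρ _).trans (congrArg _ (funext fun i => by
        show ρ (Pi.basisFun A (Fin r) i) = v i
        rw [Pi.basisFun_apply]
        exact (Fintype.linearCombination_apply_single A v i 1).trans (one_smul _ _)))] at h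
  exact h

theorem bijective_smul_ιMulti (b : Fin r → E) (hb : Function.Bijective (Fintype.linearCombination A b)) :
    Function.Bijective (fun a : A => a • exteriorPower.ιMulti A r b) := by
  let ρ : (Fin r → A) ≃ₗ[A] E := LinearEquiv.ofBijective _ hb
  have htop : exteriorPower.map r ρ.toLinearMap top = exteriorPower.ιMulti A r b :=
    (exteriorPower.map_apply_ιMulti _ _).trans (congrArg _ (funext fun i => by
      show ρ (Pi.basisFun A (Fin r) i) = b i
      rw [Pi.basisFun_apply]
      exact (Fintype.linearCombination_apply_single A b i 1).trans (one_smul _ _)))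
  obtain ⟨ε, hε⟩ := exists_coord_top (R := A) (n := r)
  refine ⟨fun a a' h => ?_, fun z => ?_⟩
  · have hid : ∀ z, exteriorPower.map r ρ.symm.toLinearMap (exteriorPower.map r ρ.toLinearMap z) = z := fun z => by
      rw [← LinearMap.comp_apply, ← exteriorPower.map_comp, LinearEquiv.symm_comp, exteriorPower.map_id]
      rfl
    have h' := congrArg (fun z => ε (exteriorPower.map r ρ.symm.toLinearMap z)) h
    simp only [← htop, map_smul, hid, hε, smul_eq_mul, mul_one] at h'
    exact h'
  · obtain ⟨w, rfl⟩ : ∃ w, exteriorPower.map r ρ.toLinearMap w = z :=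
      ⟨exteriorPower.map r ρ.symm.toLinearMap z, by
        rw [← LinearMap.comp_apply, ← exteriorPower.map_comp, LinearEquiv.comp_symm, exteriorPower.map_id]
        rfl⟩
    refine ⟨ε w, ?_⟩
    show ε w • _ = _
    rw [← htop, ← map_smul]
    refine congrArg _ (LinearMap.congr_fun (f := (LinearMap.toSpanSingleton A _ top).comp ε)
      (g := LinearMap.id) (hom_ext_top _ _ ?_) w)
    rw [LinearMap.comp_apply, hε, LinearMap.toSpanSingleton_apply, one_smul]
    rfl

/-- Relations of a Koszul regular sequence have coefficients in its ideal. -/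
theorem relation_mem {f : Fin r → A} (hK : CAlgH.KoszulRegular.KReg f) (v : Fin r → A)
    (hv : ∑ i, v i * f i = 0) (i : Fin r) : v i ∈ Ideal.span (Set.range f) := by
  let z : K A r 1 := (exteriorPower.oneEquiv A (Fin r → A)).symm v
  have hz : (z : ExteriorAlgebra A (Fin r → A)) = ExteriorAlgebra.ι A v := by
    simp [z, exteriorPower.oneEquiv, exteriorPower.ιMulti_apply_coe, ExteriorAlgebra.ιMulti_apply,
      List.ofFn_succ]
  have h0 : Disc12.Koszul.d f 0 z = 0 := Subtype.ext (by
    rw [Disc12.Koszul.coe_d, hz, Disc12.Koszul.D_ι, Disc12.Koszul.functional_apply, hv, map_zero]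
    rfl)
  obtain ⟨y, hy⟩ := (hK 0 z).1 h0
  let c : K A r 1 →ₗ[A] A := (LinearMap.proj i).comp (exteriorPower.oneEquiv A (Fin r → A)).toLinearMap
  have hle : (Ideal.span (Set.range f) • (⊤ : Submodule A (K A r 1))).map c ≤ Ideal.span (Set.range f) := by
    rw [Submodule.map_smul'', smul_eq_mul]
    exact Ideal.mul_le_left
  have h := hle ⟨_, hy ▸ Disc12.Koszul.d_mem_smul f 1 y, rfl⟩
  rwa [show c z = v i from congrFun ((exteriorPower.oneEquiv A (Fin r → A)).apply_symm_apply v) i] at h

end Algebra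

/-- Generators are recognised on affine opens. -/
theorem isGen_of_affine {X : Scheme.{u}} {L : X.Modules} {U : X.Opens} {s : Γ(L, U)}
    (h : ∀ (W : X.Opens) (hW : W ≤ U), IsAffineOpen W → Function.Bijective (fun a : Γ(X, W) => a • resM L hW s)) :
    IsGen L U s := by
  intro V hV
  let κ := {W : X.Opens // IsAffineOpen W ∧ W ≤ V}
  have hcov : V ≤ ⨆ W : κ, W.1 := fun x hx => by
    obtain ⟨W, hW, hxW, hWV⟩ := Opens.isBasis_iff_nbhd.mp X.isBasis_affineOpens hx
    exact Opens.mem_iSup.2 ⟨⟨W, hW, hWV⟩, hxW⟩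
  have hinj : ∀ (W : X.Opens) (hW : W ≤ U) (a b : Γ(X, W)), a • resM L hW s = b • resM L hW s → a = b := by
    intro W hW a b hab
    let κ' := {W' : X.Opens // IsAffineOpen W' ∧ W' ≤ W}
    refine TopCat.Sheaf.eq_of_locally_eq' X.sheaf (fun i : κ' => i.1) W (fun i => homOfLE i.2.2) (fun x hx => ?_) a b
      fun i => ?_
    · obtain ⟨W', hW', hxW', hle⟩ := Opens.isBasis_iff_nbhd.mp X.isBasis_affineOpens hx
      exact Opens.mem_iSup.2 ⟨⟨W', hW', hle⟩, hxW'⟩
    · refine (h i.1 (i.2.2.trans hW) i.2.1).1 ?_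
      have h2 := congrArg (resM L i.2.2) hab
      rw [resM_smul, resM_smul, resM_resM] at h2
      exact h2
  refine ⟨fun a b => hinj V hV a b, fun x => ?_⟩
  choose c hc using fun W : κ => (h W.1 (W.2.2.trans hV) W.2.1).2 (resM L W.2.2 x)
  obtain ⟨a, ha⟩ : ∃ a : Γ(X, V), ∀ W : κ, X.presheaf.map (homOfLE W.2.2).op a = c W :=
    (TopCat.Sheaf.existsUnique_gluing' X.sheaf (fun W : κ => W.1) V (fun W => homOfLE W.2.2) hcov c
      (fun W W' => hinj (W.1 ⊓ W'.1) ((inf_le_left.trans W.2.2).trans hV) _ _ (by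
        have h1 := congrArg (resM L (inf_le_left : W.1 ⊓ W'.1 ≤ W.1)) (hc W)
        have h2 := congrArg (resM L (inf_le_right : W.1 ⊓ W'.1 ≤ W'.1)) (hc W')
        rw [resM_smul, resM_resM, resM_resM] at h1 h2
        exact h1.trans h2.symm))).exists
  refine ⟨a, AmpleLib.sec_ext L _ _ fun y hy => ?_⟩
  obtain ⟨W, hW, hyW, hWV⟩ := Opens.isBasis_iff_nbhd.mp X.isBasis_affineOpens hy
  refine ⟨W, hWV, hyW, ?_⟩
  show resM L hWV (a • resM L hV s) = resM L hWV x
  rw [resM_smul, resM_resM, show X.presheaf.map (homOfLE hWV).op a = c ⟨W, hW, hWV⟩ from ha ⟨W, hW, hWV⟩]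
  exact hc ⟨W, hW, hWV⟩

variable {P X : Scheme.{u}} (ι : X ⟶ P) [IsClosedImmersion ι]

/-- The ideal of the subscheme on an open. -/
abbrev idl (U : P.Opens) : Ideal Γ(P, U) := RingHom.ker (ι.app U).hom

theorem res_mem_idl {U V : P.Opens} (h : V ≤ U) {a : Γ(P, U)} (ha : a ∈ idl ι U) :
    P.presheaf.map (homOfLE h).op a ∈ idl ι V := by
  rw [RingHom.mem_ker] at ha ⊢
  refine (ConcreteCategory.congr_hom (ι.naturality (homOfLE h).op) a).trans ?_
  show X.presheaf.map _ (ι.app U a) = 0
  rw [ha, map_zero]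

theorem exists_lift_idl {U : P.Opens} (hU : IsAffineOpen U) (a : idl ι U) :
    ∃ s : Γ(ClSub.idealMod ι.ker, U), OmegaSh.idealSect ι.ker U s = a.1 :=
  OmegaLib.exists_idealSect ι.ker hU (by rw [Scheme.Hom.ker_apply]; exact a.2)

/-- An element of the ideal as a section of the ideal sheaf. -/
noncomputable def idlSec {U : P.Opens} (hU : IsAffineOpen U) (a : idl ι U) : Γ(ClSub.idealMod ι.ker, U) :=
  (exists_lift_idl ι hU a).choose

theorem idealSect_idlSec {U : P.Opens} (hU : IsAffineOpen U) (a : idl ι U) :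
    OmegaSh.idealSect ι.ker U (idlSec ι hU a) = a.1 := (exists_lift_idl ι hU a).choose_spec

theorem idlSec_eq {U : P.Opens} (hU : IsAffineOpen U) (a : idl ι U) (s : Γ(ClSub.idealMod ι.ker, U))
    (h : OmegaSh.idealSect ι.ker U s = a.1) : idlSec ι hU a = s :=
  OmegaLib.idealSect_injective ι.ker U ((idealSect_idlSec ι hU a).trans h.symm)

theorem idealSect_smul (U : P.Opens) (c : Γ(P, U)) (s : Γ(ClSub.idealMod ι.ker, U)) :
    OmegaSh.idealSect ι.ker U (c • s) = c * OmegaSh.idealSect ι.ker U s :=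
  Scheme.Modules.Hom.app_smul (ClSub.idealModι ι.ker) c s

theorem idealSect_res {U V : P.Opens} (h : V ≤ U) (s : Γ(ClSub.idealMod ι.ker, U)) :
    OmegaSh.idealSect ι.ker V (resM _ h s) = P.presheaf.map (homOfLE h).op (OmegaSh.idealSect ι.ker U s) :=
  app_resM (ClSub.idealModι ι.ker) h s

theorem idlSec_res {U V : P.Opens} (hU : IsAffineOpen U) (hV : IsAffineOpen V) (h : V ≤ U) (a : idl ι U) :
    resM _ h (idlSec ι hU a) = idlSec ι hV ⟨P.presheaf.map (homOfLE h).op a.1, res_mem_idl ι h a.2⟩ := by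
  refine (idlSec_eq ι hV _ _ ?_).symm
  rw [idealSect_res, idealSect_idlSec]

/-- The conormal class of an element of the ideal. -/
noncomputable def cls {U : P.Opens} (hU : IsAffineOpen U) (a : idl ι U) :
    (Omega.conormal ι).val.obj (op (ι ⁻¹ᵁ U)) :=
  PicLib.pullSec ι (idlSec ι hU a)

theorem cls_res {U V : P.Opens} (hU : IsAffineOpen U) (hV : IsAffineOpen V) (h : V ≤ U) (a : idl ι U) :
    resM (Omega.conormal ι) ((Opens.map ι.base).map (homOfLE h)).le (cls ι hU a) =
      cls ι hV ⟨P.presheaf.map (homOfLE h).op a.1, res_mem_idl ι h a.2⟩ :=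
  (PicLib.resM_pullSec ι h (idlSec ι hU a)).trans (congrArg (PicLib.pullSec ι) (idlSec_res ι hU hV h a))

theorem cls_sum {U : P.Opens} (hU : IsAffineOpen U) {κ : Type} [Fintype κ] (c : κ → Γ(P, U)) (a : κ → idl ι U)
    (b : idl ι U) (hb : b.1 = ∑ j, c j * (a j).1) :
    cls ι hU b = ∑ j, ι.app U (c j) • cls ι hU (a j) := by
  have h : idlSec ι hU b = ∑ j, c j • idlSec ι hU (a j) := idlSec_eq ι hU b _ (by
    rw [map_sum, hb]
    exact Finset.sum_congr rfl fun j _ => by rw [idealSect_smul, idealSect_idlSec])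
  show PicLib.pullSec ι (idlSec ι hU b) = _
  rw [h]
  show ((Scheme.Modules.pullbackPushforwardAdjunction ι).unit.app _).app U _ = _
  rw [map_sum]
  exact Finset.sum_congr rfl fun j _ => PicLib.pullSec_smul ι (c j) _

variable {r : ℕ} {L : X.Modules}
  (φ : ∀ U : X.affineOpens, (L.val.obj (op U.1)) ≃ₗ[Γ(X, U.1)]
    ↥(⋀[Γ(X, U.1)]^r ((Omega.conormal ι).val.obj (op U.1))))
  (hφ : ∀ (U V : X.affineOpens) (h : V.1 ≤ U.1) (e : Fin r → (Omega.conormal ι).val.obj (op U.1)),
      L.val.map (homOfLE h).op ((φ U).symm (exteriorPower.ιMulti _ r e)) =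
        (φ V).symm (exteriorPower.ιMulti _ r (fun j => (Omega.conormal ι).val.map (homOfLE h).op (e j))))

/-- The section of `L` given by a sequence in the ideal. -/
noncomputable def lGen {U : P.Opens} (hU : IsAffineOpen U) (g : Fin r → idl ι U) : Γ(L, ι ⁻¹ᵁ U) :=
  (φ ⟨ι ⁻¹ᵁ U, hU.preimage ι⟩).symm (exteriorPower.ιMulti _ r fun i => cls ι hU (g i))

include hφ in
theorem lGen_resM {U : P.Opens} (hU : IsAffineOpen U) (g : Fin r → idl ι U) {W : X.Opens} (hWa : IsAffineOpen W)
    (hW : W ≤ ι ⁻¹ᵁ U) : resM L hW (lGen ι φ hU g) =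
      (φ ⟨W, hWa⟩).symm (exteriorPower.ιMulti _ r fun i =>
        (show (Omega.conormal ι).val.obj (op W) from resM (Omega.conormal ι) hW (cls ι hU (g i)))) :=
  hφ ⟨ι ⁻¹ᵁ U, hU.preimage ι⟩ ⟨W, hWa⟩ hW fun i => cls ι hU (g i)

include hφ in
theorem lGen_res {U V : P.Opens} (hU : IsAffineOpen U) (hV : IsAffineOpen V) (h : V ≤ U) (g : Fin r → idl ι U) :
    resM L ((Opens.map ι.base).map (homOfLE h)).le (lGen ι φ hU g) =
      lGen ι φ hV fun i => ⟨P.presheaf.map (homOfLE h).op (g i).1, res_mem_idl ι h (g i).2⟩ :=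
  (hφ ⟨ι ⁻¹ᵁ U, hU.preimage ι⟩ ⟨ι ⁻¹ᵁ V, hV.preimage ι⟩ ((Opens.map ι.base).map (homOfLE h)).le _).trans
    (congrArg (fun e => (φ ⟨ι ⁻¹ᵁ V, hV.preimage ι⟩).symm (exteriorPower.ιMulti _ r e))
      (funext fun i => cls_res ι hU hV h (g i)))

theorem lGen_change {U : P.Opens} (hU : IsAffineOpen U) (g g' : Fin r → idl ι U)
    (c : Matrix (Fin r) (Fin r) Γ(P, U)) (hc : ∀ i, (g' i).1 = ∑ j, c i j * (g j).1) :
    lGen ι φ hU g' = ι.app U c.det • lGen ι φ hU g := by
  have h : (fun i => cls ι hU (g' i)) = fun i => ∑ j, ((ι.app U).hom.mapMatrix c) i j • cls ι hU (g j) :=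
    funext fun i => cls_sum ι hU (c i) g (g' i) (hc i)
  show (φ _).symm _ = _
  rw [h, ιMulti_matrix, map_smul, ← RingHom.map_det]
  rfl

omit φ hφ in
/-- The classes of a regular sequence form a basis of the conormal sheaf over affine opens. -/
theorem bijective_cls {U : P.Opens} (hU : IsAffineOpen U) (g : Fin r → idl ι U)
    (hspan : Ideal.span (Set.range fun i => (g i).1) = idl ι U)
    (hK : CAlgH.KoszulRegular.KReg fun i => (g i).1) {W : X.Opens} (hWa : IsAffineOpen W) (hW : W ≤ ι ⁻¹ᵁ U) :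
    Function.Bijective (Fintype.linearCombination Γ(X, W)
      fun i => (show (Omega.conormal ι).val.obj (op W) from resM (Omega.conormal ι) hW (cls ι hU (g i)))) := by
  haveI := MorProj.isQCoh_idealMod ι.ker
  letI := (ι.appLE U W hW).hom.toAlgebra
  letI := Module.compHom Γ((Scheme.Modules.pullback ι).obj (ClSub.idealMod ι.ker), W) (ι.appLE U W hW).hom
  haveI : IsScalarTower Γ(P, U) Γ(X, W) Γ((Scheme.Modules.pullback ι).obj (ClSub.idealMod ι.ker), W) :=
    IsScalarTower.of_algebraMap_smul fun _ _ => rfl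
  let b₂ : Fin r → Γ((Scheme.Modules.pullback ι).obj (ClSub.idealMod ι.ker), W) := fun i =>
    resM _ hW (PicLib.pullSec ι (idlSec ι hU (g i)))
  obtain ⟨μ, hμ, hμe⟩ := EGA43.InjFibre.pullMap_isBaseChange ι hU hWa hW (ClSub.idealMod ι.ker)
  let T : (Fin r → Γ(P, U)) →ₗ[Γ(P, U)] Γ(ClSub.idealMod ι.ker, U) :=
    Fintype.linearCombination _ fun i => idlSec ι hU (g i)
  have hT : ∀ v, OmegaSh.idealSect ι.ker U (T v) = ∑ i, v i * (g i).1 := fun v => by
    rw [Fintype.linearCombination_apply, map_sum]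
    exact Finset.sum_congr rfl fun i _ => by rw [idealSect_smul, idealSect_idlSec]
  have hTs : Function.Surjective T := fun s => by
    have hs : OmegaSh.idealSect ι.ker U s ∈ Ideal.span (Set.range fun i => (g i).1) := by
      have h := OmegaLib.idealSect_mem ι.ker hU s
      rw [Scheme.Hom.ker_apply] at h
      rw [hspan]
      exact h
    obtain ⟨v, hv⟩ := Submodule.mem_span_range_iff_exists_fun _ |>.1 hs
    exact ⟨v, OmegaLib.idealSect_injective ι.ker U ((hT v).trans hv)⟩
  have hbμ : ∀ v, μ (T v) = ∑ i, ι.appLE U W hW (v i) • b₂ i := fun v => by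
    rw [Fintype.linearCombination_apply, map_sum]
    refine Finset.sum_congr rfl fun i _ => ?_
    rw [map_smul, hμe, Coherent.pullMap_eq_resM_pullSec]
    rfl
  show Function.Bijective (Fintype.linearCombination Γ(X, W) b₂)
  refine ⟨?_, ?_⟩
  · have hfun : ∀ i, ∃ ε : Γ((Scheme.Modules.pullback ι).obj (ClSub.idealMod ι.ker), W) →ₗ[Γ(X, W)] Γ(X, W),
        ∀ j, ε (b₂ j) = if j = i then 1 else 0 := by
      intro i
      let σ : (Fin r → Γ(P, U)) →ₗ[Γ(P, U)] Γ(X, W) :=
        (Algebra.linearMap Γ(P, U) Γ(X, W)).comp (LinearMap.proj i)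
      have hker : LinearMap.ker T ≤ LinearMap.ker σ := fun v hv => by
        have h0 : ∑ j, v j * (g j).1 = 0 := by rw [← hT, show T v = 0 from hv, map_zero]
        have hm := relation_mem hK v h0 i
        rw [hspan, RingHom.mem_ker] at hm
        show ι.appLE U W hW (v i) = 0
        show (ι.app U ≫ X.presheaf.map (homOfLE hW).op) (v i) = 0
        show X.presheaf.map (homOfLE hW).op (ι.app U (v i)) = 0
        rw [hm, map_zero]
      let e : Γ(ClSub.idealMod ι.ker, U) →ₗ[Γ(P, U)] Γ(X, W) :=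
        ((LinearMap.ker T).liftQ σ hker).comp (T.quotKerEquivOfSurjective hTs).symm.toLinearMap
      have he : ∀ v, e (T v) = σ v := fun v => by
        show (LinearMap.ker T).liftQ σ hker ((T.quotKerEquivOfSurjective hTs).symm (T v)) = σ v
        rw [LinearMap.quotKerEquivOfSurjective_symm_apply]
        rfl
      refine ⟨hμ.lift e, fun j => ?_⟩
      have hbj : b₂ j = μ (T (Pi.single j 1)) := by
        rw [hbμ, Finset.sum_eq_single j (fun k _ hk => by
          rw [Pi.single_eq_of_ne hk, map_zero, zero_smul]) (fun h => absurd (Finset.mem_univ j) h),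
          Pi.single_eq_same, map_one, one_smul]
      rw [hbj, hμ.lift_eq, he]
      show algebraMap Γ(P, U) Γ(X, W) ((Pi.single j (1 : Γ(P, U)) : Fin r → Γ(P, U)) i) = _
      rcases eq_or_ne j i with rfl | hne
      · rw [Pi.single_eq_same, map_one, if_pos rfl]
      · rw [Pi.single_eq_of_ne hne.symm, map_zero, if_neg hne]
    choose ε hε using hfun
    intro a a' h
    funext i
    have h' := congrArg (ε i) h
    simp only [Fintype.linearCombination_apply, map_sum, map_smul, hε, smul_eq_mul, mul_ite, mul_one, mul_zero,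
      Finset.sum_ite_eq', Finset.mem_univ, if_true] at h'
    exact h'
  · intro x
    refine hμ.inductionOn x (fun x => ∃ a, Fintype.linearCombination Γ(X, W) b₂ a = x) ⟨0, map_zero _⟩
      (fun m => ?_) (fun s x ⟨a, ha⟩ => ⟨s • a, by rw [map_smul, ha]⟩)
      (fun x y ⟨a, ha⟩ ⟨a', ha'⟩ => ⟨a + a', by rw [map_add, ha, ha']⟩)
    obtain ⟨v, rfl⟩ := hTs m
    exact ⟨fun i => ι.appLE U W hW (v i), by rw [hbμ, Fintype.linearCombination_apply]⟩

include hφ in
/-- A regular sequence gives a generator. -/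
theorem isGen_lGen {U : P.Opens} (hU : IsAffineOpen U) (g : Fin r → idl ι U)
    (hspan : Ideal.span (Set.range fun i => (g i).1) = idl ι U)
    (hK : CAlgH.KoszulRegular.KReg fun i => (g i).1) : IsGen L (ι ⁻¹ᵁ U) (lGen ι φ hU g) := by
  refine isGen_of_affine fun W hW hWa => ?_
  let W' : X.affineOpens := ⟨W, hWa⟩
  let b : Fin r → (Omega.conormal ι).val.obj (op W) := fun i => resM (Omega.conormal ι) hW (cls ι hU (g i))
  suffices hb : Function.Bijective (Fintype.linearCombination Γ(X, W) b) by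
    have he : resM L hW (lGen ι φ hU g) = (φ W').symm (exteriorPower.ιMulti _ r b) :=
      lGen_resM ι φ hφ hU g hWa hW
    have h : (fun a : Γ(X, W) => a • resM L hW (lGen ι φ hU g)) =
        (φ W').symm ∘ fun a => a • exteriorPower.ιMulti Γ(X, W) r b := funext fun a => by
      rw [he]; exact (map_smul (φ W').symm a _).symm
    rw [h]
    exact (φ W').symm.bijective.comp (bijective_smul_ιMulti b hb)
  exact bijective_cls ι hU g hspan hK hWa hW

end Groth.Agent.FundLocal
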