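import Groth.Agent.Disc12.Koszul.Colon
import Groth.Agent.SDiv28.KoszulH1
import Mathlib.Algebra.Module.Injective

/-!
# The residue of a cycle along a sequence

For a resolution `0 → N → G⁰ → G¹ → ⋯` and elements `f₁, …, fₙ` the staircase in the double complex
`Hom(K_p(f), G^i)` sends a cycle of `Gⁿ` killed by the `f`'s to an element of `N` modulo `(f) N`.
-/

universe u

set_option autoImplicit false
set_option backward.isDefEq.respectTransparency false
set_option linter.unusedSectionVars false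
set_option linter.style.haveILetI false

open Groth.Agent.Disc12.Koszul

namespace Groth.Agent.FundLocal

variable {R : Type u} [CommRing R] {n : ℕ}

/-- The top element in degree `q`. -/
noncomputable def topq (q : ℕ) : K R n q := if h : n = q then h ▸ top else 0

theorem topq_self : topq (R := R) n = top (n := n) := dif_pos rfl

theorem kmap_topq (c : Matrix (Fin n) (Fin n) R) (q : ℕ) :
    kmap c.vecMulLinear q (topq q) = c.det • topq q := by
  by_cases h : n = q
  · subst h; rw [topq_self]; exact kmap_top c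
  · rw [topq, dif_neg h, map_zero, smul_zero]

theorem hom_ext_top {M : Type u} [AddCommGroup M] [Module R M] (φ ψ : K R n n →ₗ[R] M)
    (h : φ top = ψ top) : φ = ψ := by
  refine exteriorPower.linearMap_ext (AlternatingMap.ext fun v => ?_)
  show φ (exteriorPower.ιMulti R n v) = ψ (exteriorPower.ιMulti R n v)
  rw [ιMulti_eq_det_smul, map_smul, map_smul, h]

theorem e0_injective : Function.Injective (e0 (R := R) (n := n)) := fun a b h => by
  have h' : algebraMap R (ExteriorAlgebra R (Fin n → R)) a = algebraMap R _ b := congrArg Subtype.val h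
  exact (ExteriorAlgebra.algebraMap_inj _ a b).1 h'

/-- Scalars as the Koszul complex in degree zero. -/
noncomputable def e0Equiv : R ≃ₗ[R] K R n 0 := LinearEquiv.ofBijective e0 ⟨e0_injective, e0_surjective⟩

/-- A map killing the kernel factors through a linear map, the target being injective. -/
theorem exists_factor {A B M : Type u} [AddCommGroup A] [Module R A] [AddCommGroup B] [Module R B]
    [AddCommGroup M] [Module R M] (hM : Module.Injective R M) (δ : A →ₗ[R] B) (g : A →ₗ[R] M)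
    (h : ∀ a, δ a = 0 → g a = 0) : ∃ ψ : B →ₗ[R] M, ψ ∘ₗ δ = g := by
  let g' : LinearMap.range δ →ₗ[R] M :=
    ((LinearMap.ker δ).liftQ g fun a ha => h a ha).comp δ.quotKerEquivRange.symm.toLinearMap
  obtain ⟨ψ, hψ⟩ := hM.out _ (LinearMap.range δ).injective_subtype g'
  refine ⟨ψ, LinearMap.ext fun a => ?_⟩
  refine (hψ ⟨δ a, a, rfl⟩).trans ?_
  simp only [g', LinearMap.comp_apply, LinearEquiv.coe_coe]
  rw [LinearMap.quotKerEquivRange_symm_apply_image δ a (LinearMap.mem_range_self δ a)]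
  rfl

/-- A map into the kernel of the next lifts, the source being projective. -/
theorem exists_lift_exact {A M M' M'' : Type u} [AddCommGroup A] [Module R A] [Module.Projective R A]
    [AddCommGroup M] [Module R M] [AddCommGroup M'] [Module R M'] [AddCommGroup M''] [Module R M'']
    {a : M →ₗ[R] M'} {b : M' →ₗ[R] M''} (hex : Function.Exact a b) (φ : A →ₗ[R] M')
    (h : b ∘ₗ φ = 0) : ∃ η : A →ₗ[R] M, a ∘ₗ η = φ := by
  obtain ⟨η, hη⟩ := Module.projective_lifting_property a.rangeRestrict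
    (φ.codRestrict (LinearMap.range a) fun z => (hex _).1 (LinearMap.congr_fun h z))
    (LinearMap.surjective_rangeRestrict _)
  exact ⟨η, LinearMap.ext fun z => congrArg Subtype.val (LinearMap.congr_fun hη z)⟩

variable {N : Type u} [AddCommGroup N] [Module R N] {G : ℕ → Type u} [∀ i, AddCommGroup (G i)]
  [∀ i, Module R (G i)] (dG : ∀ i, G i →ₗ[R] G (i + 1)) (ε : N →ₗ[R] G 0)

/-- The staircase from `ψ : K_p → G^i` down to `x`. -/
def Zig (f : Fin n → R) : ∀ (i p : ℕ), (K R n p →ₗ[R] G i) → N → Prop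
  | 0, p, ψ, x => ε x = ψ (d f p (topq (p + 1)))
  | i + 1, p, ψ, x =>
    ∃ ψ' : K R n (p + 1) →ₗ[R] G i, dG i ∘ₗ ψ' = ψ ∘ₗ d f p ∧ Zig f i (p + 1) ψ' x

variable {dG ε} {f : Fin n → R}

theorem Zig.add : ∀ {i p : ℕ} {ψ ψ' : K R n p →ₗ[R] G i} {x x' : N},
    Zig dG ε f i p ψ x → Zig dG ε f i p ψ' x' → Zig dG ε f i p (ψ + ψ') (x + x')
  | 0, p, ψ, ψ', x, x', h, h' => by
    show ε (x + x') = _
    rw [map_add, show ε x = _ from h, show ε x' = _ from h']
    rfl
  | i + 1, p, ψ, ψ', x, x', ⟨φ, hφ, h⟩, ⟨φ', hφ', h'⟩ =>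
    ⟨φ + φ', by rw [LinearMap.comp_add, LinearMap.add_comp, hφ, hφ'], h.add h'⟩

theorem Zig.smul (a : R) : ∀ {i p : ℕ} {ψ : K R n p →ₗ[R] G i} {x : N},
    Zig dG ε f i p ψ x → Zig dG ε f i p (a • ψ) (a • x)
  | 0, p, ψ, x, h => by
    show ε (a • x) = _
    rw [map_smul, show ε x = _ from h]
    rfl
  | i + 1, p, ψ, x, ⟨φ, hφ, h⟩ =>
    ⟨a • φ, by rw [LinearMap.comp_smul, LinearMap.smul_comp, hφ], h.smul a⟩

/-- The staircase exists below a cycle. -/
theorem exists_zig (h0 : Function.Exact ε (dG 0)) (hG : ∀ i, Function.Exact (dG i) (dG (i + 1))) :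
    ∀ (i p : ℕ) (ψ : K R n p →ₗ[R] G i), dG i ∘ₗ ψ ∘ₗ d f p = 0 → ∃ x, Zig dG ε f i p ψ x
  | 0, p, ψ, h => (h0 _).1 (LinearMap.congr_fun h (topq (p + 1)))
  | i + 1, p, ψ, h => by
    obtain ⟨φ, hφ⟩ := exists_lift_exact (hG i) (ψ ∘ₗ d f p) h
    obtain ⟨x, hx⟩ := exists_zig h0 hG i (p + 1) φ (by
      rw [← LinearMap.comp_assoc, hφ, LinearMap.comp_assoc, d_d, LinearMap.comp_zero])
    exact ⟨x, φ, hφ, hx⟩

/-- A trivial staircase ends in `(f) N`. -/
theorem Zig.mem (hε : Function.Injective ε) (h0 : Function.Exact ε (dG 0))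
    (hG : ∀ i, Function.Exact (dG i) (dG (i + 1))) :
    ∀ {i p : ℕ} {ψ : K R n p →ₗ[R] G i} {x : N}, Zig dG ε f i p ψ x →
      ∀ χ : K R n p →ₗ[R] G i, dG i ∘ₗ χ = 0 → ψ ∘ₗ d f p = χ ∘ₗ d f p →
        x ∈ Ideal.span (Set.range f) • (⊤ : Submodule R N)
  | 0, p, ψ, x, h, χ, hχ, he => by
    obtain ⟨η, hη⟩ := exists_lift_exact h0 χ hχ
    have hx : x = η (d f p (topq (p + 1))) := hε (by
      rw [show ε x = _ from h, show ψ (d f p _) = χ (d f p _) from LinearMap.congr_fun he _, ← hη]; rfl)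
    rw [hx]
    have hle : (Ideal.span (Set.range f) • (⊤ : Submodule R (K R n p))).map η ≤
        Ideal.span (Set.range f) • (⊤ : Submodule R N) := by
      rw [Submodule.map_smul'']
      exact Submodule.smul_mono le_rfl le_top
    exact hle ⟨_, d_mem_smul f p _, rfl⟩
  | i + 1, p, ψ, x, ⟨φ, hφ, h⟩, χ, hχ, he => by
    obtain ⟨η, hη⟩ := exists_lift_exact (hG i) χ hχ
    refine h.mem hε h0 hG (φ - η ∘ₗ d f p) ?_ ?_
    · rw [LinearMap.comp_sub, hφ, ← LinearMap.comp_assoc, hη, he, sub_self]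
    · rw [LinearMap.sub_comp, LinearMap.comp_assoc, d_d, LinearMap.comp_zero, sub_zero]

/-- The upper end of a staircase is a cycle. -/
theorem Zig.cycle (h0 : Function.Exact ε (dG 0)) (hG : ∀ i, Function.Exact (dG i) (dG (i + 1))) :
    ∀ {i p : ℕ}, p + i + 1 = n → ∀ {ψ : K R n p →ₗ[R] G i} {x : N},
      Zig dG ε f i p ψ x → dG i ∘ₗ ψ ∘ₗ d f p = 0
  | 0, p, hp, ψ, x, h => by
    obtain rfl : n = p + 1 := by omega
    refine hom_ext_top _ _ ?_
    show dG 0 (ψ (d f p top)) = 0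
    rw [← topq_self, ← show ε x = _ from h]
    exact h0.apply_apply_eq_zero x
  | i + 1, p, hp, ψ, x, ⟨φ, hφ, _⟩ => by
    rw [← hφ, ← LinearMap.comp_assoc, (hG i).linearMap_comp_eq_zero, LinearMap.zero_comp]

/-- Wedge with a standard vector. -/
noncomputable def wedge (i : Fin n) (p : ℕ) : K R n p →ₗ[R] K R n (p + 1) :=
  ((LinearMap.mulLeft R (ExteriorAlgebra.ι R (Pi.single i 1 : Fin n → R))).comp
    (⋀[R]^p (Fin n → R)).subtype).codRestrict (⋀[R]^(p + 1) (Fin n → R)) fun z => by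
      show ExteriorAlgebra.ι R (Pi.single i 1) * z.1 ∈ _
      rw [ExteriorAlgebra.exteriorPower, pow_succ']
      exact Submodule.mul_mem_mul ⟨_, rfl⟩ z.2

theorem wedge_d (i : Fin n) (p : ℕ) (z : K R n (p + 1)) :
    wedge i p (d f p z) = f i • z - d f (p + 1) (wedge i (p + 1) z) := by
  refine Subtype.ext ?_
  show ExteriorAlgebra.ι R (Pi.single i 1) * D (functional f) z.1 =
    f i • z.1 - D (functional f) (ExteriorAlgebra.ι R (Pi.single i 1) * z.1)
  rw [D_ι_mul, functional_single, sub_sub_cancel]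

/-- Every element of `(f) N` is the value at `δ(top)` of a linear map. -/
theorem exists_apply_d_top {p : ℕ} (hp : n = p + 1) {x : N}
    (hx : x ∈ Ideal.span (Set.range f) • (⊤ : Submodule R N)) :
    ∃ η : K R n p →ₗ[R] N, η (d f p (topq (p + 1))) = x := by
  subst hp
  let E : (K R (p + 1) p →ₗ[R] N) →ₗ[R] N := LinearMap.applyₗ (d f p (topq (p + 1)))
  suffices h : x ∈ LinearMap.range E from h
  have hle : Ideal.span (Set.range f) • (⊤ : Submodule R N) ≤ LinearMap.range E := by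
    rw [Submodule.span_smul_eq, Submodule.set_smul_le_iff]
    rintro _ m ⟨i, rfl⟩ -
    obtain ⟨c, hc⟩ := exists_coord_top (R := R) (n := p + 1)
    haveI : Subsingleton (K R (p + 1) (p + 1 + 1)) := subsingleton_K (by omega)
    refine ⟨(LinearMap.toSpanSingleton R N m).comp (c.comp (wedge i p)), ?_⟩
    show c (wedge i p (d f p (topq (p + 1)))) • m = f i • m
    rw [wedge_d, Subsingleton.elim (wedge i (p + 1) (topq (p + 1))) 0, map_zero, sub_zero, map_smul,
      topq_self, hc, smul_eq_mul, mul_one]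
  exact hle hx

/-- Every element is the end of a staircase. -/
theorem exists_zig_of_mem (hinj : ∀ i, Module.Injective R (G i)) (hK : CAlgH.KoszulRegular.KReg f)
    (h0 : Function.Exact ε (dG 0)) (hG : ∀ i, Function.Exact (dG i) (dG (i + 1))) (x : N) :
    ∀ (i p : ℕ), p + i + 1 = n →
      ∃ ψ : K R n p →ₗ[R] G i, dG i ∘ₗ ψ ∘ₗ d f p = 0 ∧ Zig dG ε f i p ψ x
  | 0, p, hp => by
    obtain rfl : n = p + 1 := by omega
    obtain ⟨c, hc⟩ := exists_coord_top (R := R) (n := p + 1)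
    haveI : Subsingleton (K R (p + 1) (p + 1 + 1)) := subsingleton_K (by omega)
    obtain ⟨ψ, hψ⟩ := exists_factor (hinj 0) (d f p) ((LinearMap.toSpanSingleton R _ (ε x)).comp c) fun a ha => by
      obtain ⟨b, rfl⟩ := (hK p a).1 ha
      rw [Subsingleton.elim b 0, map_zero, map_zero]
    have hz : Zig dG ε f 0 p ψ x := by
      show ε x = ψ (d f p (topq (p + 1)))
      rw [show ψ (d f p _) = _ from LinearMap.congr_fun hψ _, topq_self]
      show ε x = c top • ε x
      rw [hc, one_smul]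
    exact ⟨ψ, hz.cycle h0 hG (by omega), hz⟩
  | i + 1, p, hp => by
    obtain ⟨φ, hφ, h⟩ := exists_zig_of_mem hinj hK h0 hG x i (p + 1) (by omega)
    obtain ⟨ψ, hψ⟩ := exists_factor (hinj (i + 1)) (d f p) (dG i ∘ₗ φ) fun a ha => by
      obtain ⟨b, rfl⟩ := (hK p a).1 ha
      exact LinearMap.congr_fun hφ b
    exact ⟨ψ, by rw [hψ, ← LinearMap.comp_assoc, (hG i).linearMap_comp_eq_zero, LinearMap.zero_comp],
      φ, hψ.symm, h⟩

/-- A staircase ending in `(f) N` starts at a boundary. -/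
theorem Zig.exists_cycle (hinj : ∀ i, Module.Injective R (G i)) (hK : CAlgH.KoszulRegular.KReg f)
    (h0 : Function.Exact ε (dG 0)) (hG : ∀ i, Function.Exact (dG i) (dG (i + 1))) :
    ∀ {i p : ℕ}, p + i + 1 = n → ∀ {ψ : K R n p →ₗ[R] G i} {x : N}, Zig dG ε f i p ψ x →
      x ∈ Ideal.span (Set.range f) • (⊤ : Submodule R N) →
        ∃ χ : K R n p →ₗ[R] G i, dG i ∘ₗ χ = 0 ∧ ψ ∘ₗ d f p = χ ∘ₗ d f p
  | 0, p, hp, ψ, x, h, hx => by
    obtain ⟨η, hη⟩ := exists_apply_d_top (p := p) (by omega) hx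
    refine ⟨ε ∘ₗ η, by rw [← LinearMap.comp_assoc, h0.linearMap_comp_eq_zero, LinearMap.zero_comp], ?_⟩
    obtain rfl : n = p + 1 := by omega
    refine hom_ext_top _ _ ?_
    show ψ (d f p top) = ε (η (d f p top))
    rw [← topq_self, hη]
    exact h.symm
  | i + 1, p, hp, ψ, x, ⟨φ, hφ, h⟩, hx => by
    obtain ⟨χ, hχ, he⟩ := h.exists_cycle hinj hK h0 hG (by omega) hx
    obtain ⟨ζ, hζ⟩ := exists_factor (hinj i) (d f p) (φ - χ) fun a ha => by
      obtain ⟨b, rfl⟩ := (hK p a).1 ha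
      rw [LinearMap.sub_apply, sub_eq_zero]
      exact LinearMap.congr_fun he b
    refine ⟨dG i ∘ₗ ζ, by rw [← LinearMap.comp_assoc, (hG i).linearMap_comp_eq_zero, LinearMap.zero_comp], ?_⟩
    rw [LinearMap.comp_assoc, hζ, LinearMap.comp_sub, hχ, sub_zero, hφ]

/-- Change of the sequence. -/
theorem Zig.change {g : Fin n → R} {c : Matrix (Fin n) (Fin n) R}
    (hc : functional f ∘ₗ c.vecMulLinear = functional g) :
    ∀ {i p : ℕ} {ψ : K R n p →ₗ[R] G i} {x : N}, Zig dG ε f i p ψ x →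
      Zig dG ε g i p (ψ ∘ₗ kmap c.vecMulLinear p) (c.det • x)
  | 0, p, ψ, x, h => by
    show ε (c.det • x) = ψ (kmap c.vecMulLinear p (d g p (topq (p + 1))))
    rw [show kmap c.vecMulLinear p (d g p (topq (p + 1))) =
        d f p (kmap c.vecMulLinear (p + 1) (topq (p + 1))) from
        (LinearMap.congr_fun (d_kmap f g _ hc p) _).symm, kmap_topq, map_smul, map_smul, map_smul,
      show ε x = _ from h]
  | i + 1, p, ψ, x, ⟨φ, hφ, h⟩ => by
    refine ⟨φ ∘ₗ kmap c.vecMulLinear (p + 1), ?_, h.change hc⟩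
    rw [← LinearMap.comp_assoc, hφ, LinearMap.comp_assoc, d_kmap f g _ hc p, LinearMap.comp_assoc]

variable (dG ε) in
/-- `x` is a residue of the cycle `t` along `f`. -/
def IsRes : ∀ {n : ℕ}, (Fin n → R) → G n → N → Prop
  | 0, _, t, x => ε x = t
  | m + 1, f, t, x => ∃ ψ : K R (m + 1) 0 →ₗ[R] G m, dG m (ψ (e0 1)) = t ∧ Zig dG ε f m 0 ψ x

theorem IsRes.add : ∀ {n : ℕ} {f : Fin n → R} {t t' : G n} {x x' : N},
    IsRes dG ε f t x → IsRes dG ε f t' x' → IsRes dG ε f (t + t') (x + x')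
  | 0, f, t, t', x, x', h, h' => by
    show ε (x + x') = t + t'
    rw [map_add, show ε x = t from h, show ε x' = t' from h']
  | m + 1, f, t, t', x, x', ⟨ψ, ht, h⟩, ⟨ψ', ht', h'⟩ =>
    ⟨ψ + ψ', by rw [LinearMap.add_apply, map_add, ht, ht'], h.add h'⟩

theorem IsRes.smul (a : R) : ∀ {n : ℕ} {f : Fin n → R} {t : G n} {x : N},
    IsRes dG ε f t x → IsRes dG ε f (a • t) (a • x)
  | 0, f, t, x, h => by
    show ε (a • x) = a • t
    rw [map_smul, show ε x = t from h]
  | m + 1, f, t, x, ⟨ψ, ht, h⟩ =>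
    ⟨a • ψ, by rw [LinearMap.smul_apply, map_smul, ht], h.smul a⟩

/-- Residues exist. -/
theorem exists_isRes (h0 : Function.Exact ε (dG 0)) (hG : ∀ i, Function.Exact (dG i) (dG (i + 1))) :
    ∀ {n : ℕ} {f : Fin n → R} {t : G n}, dG n t = 0 → (∀ i, f i • t = 0) → ∃ x, IsRes dG ε f t x
  | 0, f, t, ht, _ => (h0 t).1 ht
  | m + 1, f, t, ht, hf => by
    obtain ⟨s, hs⟩ := (hG m t).1 ht
    let ψ : K R (m + 1) 0 →ₗ[R] G m := (LinearMap.toSpanSingleton R _ s).comp e0Equiv.symm.toLinearMap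
    have hψ : ∀ a, ψ (e0 a) = a • s := fun a => congrArg (· • s) (e0Equiv.symm_apply_apply a)
    obtain ⟨x, hx⟩ := exists_zig h0 hG m 0 ψ (f := f) (LinearMap.ext fun z => by
      obtain ⟨a, ha, haz⟩ := (range_d_zero f).le ⟨z, rfl⟩
      show dG m (ψ (d f 0 z)) = 0
      rw [← haz, hψ, map_smul, hs]
      have hle : Ideal.span (Set.range f) ≤ Submodule.comap (LinearMap.toSpanSingleton R _ t) ⊥ := by
        rw [Ideal.span, Submodule.span_le]
        rintro _ ⟨i, rfl⟩
        exact hf i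
      exact hle ha)
    exact ⟨x, ψ, by rw [hψ, one_smul, hs], hx⟩

/-- The residue of zero is in `(f) N`. -/
theorem IsRes.mem_zero (hε : Function.Injective ε) (h0 : Function.Exact ε (dG 0))
    (hG : ∀ i, Function.Exact (dG i) (dG (i + 1))) :
    ∀ {n : ℕ} {f : Fin n → R} {x : N}, IsRes dG ε f 0 x → x ∈ Ideal.span (Set.range f) • (⊤ : Submodule R N)
  | 0, f, x, h => by
    rw [hε (show ε x = ε 0 by rw [map_zero]; exact h)]
    exact zero_mem _
  | m + 1, f, x, ⟨ψ, ht, h⟩ => by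
    refine h.mem hε h0 hG ψ (LinearMap.ext fun z => ?_) rfl
    obtain ⟨a, rfl⟩ := e0_surjective z
    show dG m (ψ (e0 a)) = 0
    rw [← mul_one a, ← smul_eq_mul, map_smul, map_smul, map_smul, ht, smul_zero]

/-- The residue of a boundary of a section killed by `f` is in `(f) N`. -/
theorem IsRes.mem_d (hε : Function.Injective ε) (h0 : Function.Exact ε (dG 0))
    (hG : ∀ i, Function.Exact (dG i) (dG (i + 1))) {m : ℕ} {f : Fin (m + 1) → R} {s : G m}
    (hs : ∀ i, f i • s = 0) {x : N} (h : IsRes dG ε f (dG m s) x) :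
    x ∈ Ideal.span (Set.range f) • (⊤ : Submodule R N) := by
  obtain ⟨ψ, ht, h⟩ := h
  let σ : K R (m + 1) 0 →ₗ[R] G m := (LinearMap.toSpanSingleton R _ s).comp e0Equiv.symm.toLinearMap
  have hσ : ∀ a, σ (e0 a) = a • s := fun a => congrArg (· • s) (e0Equiv.symm_apply_apply a)
  refine h.mem hε h0 hG (ψ - σ) (LinearMap.ext fun z => ?_) ?_
  · obtain ⟨a, rfl⟩ := e0_surjective z
    show dG m (ψ (e0 a) - σ (e0 a)) = 0
    rw [hσ, map_sub, map_smul, ← mul_one a, ← smul_eq_mul, map_smul, map_smul, map_smul, ht, smul_eq_mul,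
      mul_one, sub_self]
  · refine LinearMap.ext fun z => ?_
    obtain ⟨a, ha, haz⟩ := (range_d_zero f).le ⟨z, rfl⟩
    show ψ (d f 0 z) = ψ (d f 0 z) - σ (d f 0 z)
    rw [← haz, hσ]
    have hle : Ideal.span (Set.range f) ≤ Submodule.comap (LinearMap.toSpanSingleton R _ s) ⊥ := by
      rw [Ideal.span, Submodule.span_le]
      rintro _ ⟨i, rfl⟩
      exact hs i
    rw [show a • s = 0 from hle ha, sub_zero]

/-- Residues are unique modulo `(f) N`. -/
theorem IsRes.sub_mem (hε : Function.Injective ε) (h0 : Function.Exact ε (dG 0))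
    (hG : ∀ i, Function.Exact (dG i) (dG (i + 1))) {n : ℕ} {f : Fin n → R} {t : G n} {x x' : N}
    (h : IsRes dG ε f t x) (h' : IsRes dG ε f t x') :
    x - x' ∈ Ideal.span (Set.range f) • (⊤ : Submodule R N) := by
  have := h.add (h'.smul (-1 : R))
  rw [neg_one_smul, neg_one_smul, ← sub_eq_add_neg, ← sub_eq_add_neg, sub_self] at this
  exact this.mem_zero hε h0 hG

/-- Every element is a residue, the sequence being Koszul regular. -/
theorem exists_of_isRes (h0 : Function.Exact ε (dG 0)) (hG : ∀ i, Function.Exact (dG i) (dG (i + 1)))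
    (hinj : ∀ i, Module.Injective R (G i)) :
    ∀ {n : ℕ} {f : Fin n → R}, CAlgH.KoszulRegular.KReg f → ∀ x : N,
      ∃ t : G n, dG n t = 0 ∧ (∀ i, f i • t = 0) ∧ IsRes dG ε f t x
  | 0, f, _, x => ⟨ε x, h0.apply_apply_eq_zero x, fun i => i.elim0, rfl⟩
  | m + 1, f, hK, x => by
    obtain ⟨ψ, hψ, hz⟩ := exists_zig_of_mem hinj hK h0 hG x m 0 (by omega)
    refine ⟨dG m (ψ (e0 1)), (hG m).apply_apply_eq_zero _, fun i => ?_, ψ, rfl, hz⟩
    rw [← map_smul, ← map_smul, ← map_smul, smul_eq_mul, mul_one]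
    obtain ⟨z, hz⟩ := (range_d_zero f).ge
      (Submodule.mem_map_of_mem (f := e0 (n := m + 1)) (Ideal.subset_span ⟨i, rfl⟩))
    rw [← hz]
    exact LinearMap.congr_fun hψ z

/-- A cycle with residue in `(f) N` is the boundary of a section killed by `f`. -/
theorem IsRes.exists_boundary (h0 : Function.Exact ε (dG 0))
    (hG : ∀ i, Function.Exact (dG i) (dG (i + 1))) (hinj : ∀ i, Module.Injective R (G i)) {m : ℕ}
    {f : Fin (m + 1) → R} (hK : CAlgH.KoszulRegular.KReg f) {t : G (m + 1)} {x : N}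
    (h : IsRes dG ε f t x) (hx : x ∈ Ideal.span (Set.range f) • (⊤ : Submodule R N)) :
    ∃ s : G m, (∀ i, f i • s = 0) ∧ dG m s = t := by
  obtain ⟨ψ, ht, h⟩ := h
  obtain ⟨χ, hχ, he⟩ := h.exists_cycle hinj hK h0 hG (by omega) hx
  refine ⟨ψ (e0 1) - χ (e0 1), fun i => ?_, ?_⟩
  · have key : e0 (n := m + 1) (f i) = f i • e0 1 := by rw [← map_smul, smul_eq_mul, mul_one]
    rw [smul_sub, ← map_smul ψ, ← map_smul χ, ← key, sub_eq_zero]
    obtain ⟨z, hz⟩ := (range_d_zero f).ge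
      (Submodule.mem_map_of_mem (f := e0 (n := m + 1)) (Ideal.subset_span ⟨i, rfl⟩))
    rw [← hz]
    exact LinearMap.congr_fun he z
  · rw [map_sub, show dG m (χ (e0 1)) = 0 from LinearMap.congr_fun hχ _, sub_zero, ht]

/-- The residue changes by the determinant. -/
theorem IsRes.change : ∀ {n : ℕ} {f g : Fin n → R} {c : Matrix (Fin n) (Fin n) R},
    (∀ i, g i = ∑ j, c i j * f j) → ∀ {t : G n} {x : N}, IsRes dG ε f t x → IsRes dG ε g t (c.det • x)
  | 0, f, g, c, _, t, x, h => by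
    show ε (c.det • x) = t
    rw [Matrix.det_fin_zero, one_smul]
    exact h
  | m + 1, f, g, c, hc, t, x, ⟨ψ, ht, h⟩ => by
    have hc' : functional f ∘ₗ c.vecMulLinear = functional g := by
      refine LinearMap.ext fun v => ?_
      simp only [LinearMap.comp_apply, Matrix.vecMulLinear_apply, functional_apply, Matrix.vecMul, dotProduct,
        hc, Finset.sum_mul, Finset.mul_sum, mul_assoc]
      exact Finset.sum_comm
    exact ⟨ψ ∘ₗ kmap c.vecMulLinear 0, by rw [LinearMap.comp_apply, kmap_zero]; exact ht, h.change hc'⟩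

section BaseChange

variable {R' : Type u} [CommRing R'] [Algebra R R'] {N' : Type u} [AddCommGroup N'] [Module R' N']
  {G' : ℕ → Type u} [∀ i, AddCommGroup (G' i)] [∀ i, Module R' (G' i)]
  {dG' : ∀ i, G' i →ₗ[R'] G' (i + 1)} {ε' : N' →ₗ[R'] G' 0}

theorem σp_basis (p : ℕ) (s) :
    σp (R := R') p (((Pi.basisFun R (Fin n)).exteriorPower p) s) = ((Pi.basisFun R' (Fin n)).exteriorPower p) s := by
  rw [← one_smul R' (σp (R := R') p _), ← baseChangeEquiv_tmul, baseChangeEquiv,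
    ← Module.Basis.baseChange_apply, Module.Basis.equiv_apply, Equiv.refl_apply]

theorem σp_smul (p : ℕ) (a : R) (z : K R n p) : σp (R := R') p (a • z) = algebraMap R R' a • σp (R := R') p z := by
  rw [map_smul, algebraMap_smul]

/-- A linear map out of a term of the Koszul complex along a semilinear map. -/
theorem exists_semilinear {M M' : Type u} [AddCommGroup M] [Module R M] [AddCommGroup M'] [Module R' M']
    (α : M →+ M') (hα : ∀ (a : R) (z : M), α (a • z) = algebraMap R R' a • α z) (p : ℕ)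
    (ψ : K R n p →ₗ[R] M) : ∃ ψ' : K R' n p →ₗ[R'] M', ∀ z, ψ' (σp (R := R') p z) = α (ψ z) := by
  let b := (Pi.basisFun R (Fin n)).exteriorPower p
  let b' := (Pi.basisFun R' (Fin n)).exteriorPower p
  refine ⟨b'.constr R' fun s => α (ψ (b s)), fun z => ?_⟩
  rw [← b.sum_repr z]
  rw [map_sum, map_sum, map_sum, map_sum]
  refine Finset.sum_congr rfl fun s _ => ?_
  rw [σp_smul, σp_basis, map_smul, map_smul ψ, hα, Module.Basis.constr_basis]

theorem σp_d (f : Fin n → R) (p : ℕ) (z : K R n (p + 1)) :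
    σp (R := R') p (d f p z) = d (fun i => algebraMap R R' (f i)) p (σp (R := R') (p + 1) z) :=
  Subtype.ext (σ_D (R := R') f z.1).symm

theorem σp_topq (q : ℕ) : σp (R := R') q (topq (R := R) (n := n) q) = topq q := by
  by_cases h : n = q
  · subst h
    rw [topq_self, topq_self]
    refine Subtype.ext ?_
    show σ (ExteriorAlgebra.ιMulti R n _) = ExteriorAlgebra.ιMulti R' n _
    rw [ExteriorAlgebra.ιMulti_apply, ExteriorAlgebra.ιMulti_apply, map_list_prod, List.map_ofFn]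
    congr 1
    congr 1
    funext i
    show σ (ExteriorAlgebra.ι R _) = _
    rw [σ_ι]
    congr 1
    funext j
    simp [Pi.single_apply, apply_ite (algebraMap R R')]
  · rw [topq, dif_neg h, topq, dif_neg h, map_zero]

variable (α : ∀ i, G i →+ G' i) (αN : N →+ N')
  (hα : ∀ i (a : R) (z : G i), α i (a • z) = algebraMap R R' a • α i z)
  (hd : ∀ i z, α (i + 1) (dG i z) = dG' i (α i z)) (hεα : ∀ x, α 0 (ε x) = ε' (αN x))

include hα hd hεα in
theorem Zig.map {f : Fin n → R} : ∀ {i p : ℕ} {ψ : K R n p →ₗ[R] G i} {x : N}, Zig dG ε f i p ψ x →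
    ∀ ψ' : K R' n p →ₗ[R'] G' i, (∀ z, ψ' (σp (R := R') p z) = α i (ψ z)) →
      Zig dG' ε' (fun j => algebraMap R R' (f j)) i p ψ' (αN x)
  | 0, p, ψ, x, h, ψ', hψ' => by
    show ε' (αN x) = ψ' (d _ p (topq (p + 1)))
    rw [← hεα, show ε x = _ from h, ← hψ', σp_d, σp_topq]
  | i + 1, p, ψ, x, ⟨φ, hφ, h⟩, ψ', hψ' => by
    obtain ⟨φ', hφ'⟩ := exists_semilinear (α i) (hα i) (p + 1) φ
    refine ⟨φ', ((Pi.basisFun R' (Fin n)).exteriorPower (p + 1)).ext fun s => ?_, h.map φ' hφ'⟩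
    show dG' i (φ' _) = ψ' (d _ p _)
    rw [← σp_basis (R := R), hφ', ← hd, ← σp_d, hψ']
    exact congrArg (α (i + 1)) (LinearMap.congr_fun hφ _)

include hα hd hεα in
/-- Residues are compatible with semilinear maps of resolutions. -/
theorem IsRes.map : ∀ {n : ℕ} {f : Fin n → R} {t : G n} {x : N}, IsRes dG ε f t x →
    IsRes dG' ε' (fun j => algebraMap R R' (f j)) (α n t) (αN x)
  | 0, f, t, x, h => by
    show ε' (αN x) = α 0 t
    rw [← hεα, show ε x = t from h]
  | m + 1, f, t, x, ⟨ψ, ht, h⟩ => by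
    obtain ⟨ψ', hψ'⟩ := exists_semilinear (α m) (hα m) 0 ψ
    refine ⟨ψ', ?_, h.map α αN hα hd hεα ψ' hψ'⟩
    rw [← ht, hd, ← hψ']
    exact congrArg (fun z => dG' m (ψ' z)) (Subtype.ext (map_one (σ (P := R) (R := R') (n := m + 1))).symm)

end BaseChange

end Groth.Agent.FundLocal
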